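import Mathlib.RingTheory.WittVector.Complete
import Mathlib.RingTheory.WittVector.TeichmullerSeries
import Mathlib.RingTheory.AdicCompletion.Basic
import Mathlib.RingTheory.Ideal.Quotient.Operations

/-!
# Distinguished elements of `W(B)`, `B` perfect of characteristic `p`, and the quotient `W(B)/ξ`

`ξ` is distinguished if `ξ = [ξ₀] + p η` with `η` a unit, equivalently if `ξ₁` is a unit.  Then in `W(B)/ξ`
the `p`-power torsion is killed by `p`, `W(B)/ξ` is `p`-adically complete and separated, and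
`(W(B)/ξ)/p = B/ξ₀`.
-/

set_option autoImplicit false

universe u v

open WittVector Ideal

namespace K148.Prim

variable {p : ℕ} [hp : Fact p.Prime] {B : Type u} [CommRing B]

local notation "𝕎" => WittVector p

section

variable [CharP B p] [PerfectRing B p]

/-- `ξ` is distinguished: `ξ = [ξ₀] + p η`, `η` a unit. -/
def IsDist (ξ : 𝕎 B) : Prop := ∃ η : 𝕎 B, IsUnit η ∧ ξ = teichmuller p (ξ.coeff 0) + p * η

omit [CharP B p] [PerfectRing B p] in
theorem coeff_zero_sub_teichmuller (x : 𝕎 B) : (x - teichmuller p (x.coeff 0)).coeff 0 = 0 := by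
  have h : constantCoeff (x - teichmuller p (x.coeff 0)) = 0 := by
    rw [map_sub]
    change x.coeff 0 - (teichmuller p (x.coeff 0)).coeff 0 = 0
    rw [teichmuller_coeff_zero, sub_self]
  exact h

theorem exists_eq_add (x : 𝕎 B) : ∃ y : 𝕎 B, x = teichmuller p (x.coeff 0) + p * y := by
  have h := (mem_span_p_iff_coeff_zero_eq_zero (x - teichmuller p (x.coeff 0))).2
    (coeff_zero_sub_teichmuller x)
  obtain ⟨y, hy⟩ := Ideal.mem_span_singleton.1 h
  exact ⟨y, by rw [← hy]; ring⟩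

theorem p_dvd_iff (x : 𝕎 B) : (p : 𝕎 B) ∣ x ↔ x.coeff 0 = 0 := by
  rw [← Ideal.mem_span_singleton, mem_span_p_iff_coeff_zero_eq_zero]

theorem eq_of_p_mul {x y : 𝕎 B} (h : p * x = p * y) : x = y := by
  rw [← sub_eq_zero]
  refine eq_zero_of_p_mul_eq_zero _ ?_
  rw [mul_comm, mul_sub, h, sub_self]

theorem eq_of_p_pow_mul (n : ℕ) {x y : 𝕎 B} (h : (p : 𝕎 B) ^ n * x = (p : 𝕎 B) ^ n * y) : x = y := by
  induction n with
  | zero => simpa using h
  | succ n ih => exact ih (eq_of_p_mul (by rw [← mul_assoc, ← mul_assoc, ← pow_succ']; exact h))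

/-- a Witt vector over a perfect ring is a unit iff its constant coefficient is. -/
theorem isUnit_iff (x : 𝕎 B) : IsUnit x ↔ IsUnit (x.coeff 0) := by
  constructor
  · intro h
    exact h.map (constantCoeff (p := p) (R := B))
  · intro h
    obtain ⟨b, hb⟩ := h.exists_right_inv
    have h1 : (x * teichmuller p b - 1).coeff 0 = 0 := by
      have h2 : constantCoeff (x * teichmuller p b - 1) = 0 := by
        rw [map_sub, map_mul, map_one]
        change x.coeff 0 * (teichmuller p b).coeff 0 - 1 = 0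
        rw [teichmuller_coeff_zero, hb, sub_self]
      exact h2
    have h2 := (mem_span_p_iff_coeff_zero_eq_zero _).2 h1
    have h3 := IsAdicComplete.le_jacobson_bot (Ideal.span {(p : 𝕎 B)}) h2
    rw [Ideal.mem_jacobson_bot] at h3
    have h4 := h3 1
    rw [mul_one, sub_add_cancel] at h4
    exact isUnit_of_mul_isUnit_left h4

omit [CharP B p] [PerfectRing B p] in
theorem coeff_zero_add (x y : 𝕎 B) : (x + y).coeff 0 = x.coeff 0 + y.coeff 0 :=
  map_add (constantCoeff (p := p) (R := B)) x y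

omit [CharP B p] [PerfectRing B p] in
theorem coeff_zero_mul (x y : 𝕎 B) : (x * y).coeff 0 = x.coeff 0 * y.coeff 0 :=
  map_mul (constantCoeff (p := p) (R := B)) x y

omit [PerfectRing B p] in
theorem coeff_zero_p_mul (x : 𝕎 B) : ((p : 𝕎 B) * x).coeff 0 = 0 := by
  rw [mul_comm, mul_charP_coeff_zero]

omit [PerfectRing B p] in
theorem coeff_one_eq {x y : 𝕎 B} {a : B} (h : x = teichmuller p a + (p : 𝕎 B) * y) :
    x.coeff 1 = y.coeff 0 ^ p := by
  rw [h, coeff_add_of_disjoint]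
  · rw [teichmuller_coeff_pos p a 1 one_pos, mul_comm, mul_charP_coeff_succ, zero_add]
  · intro n
    rcases Nat.eq_zero_or_pos n with rfl | hn
    · exact Or.inr (coeff_zero_p_mul y)
    · exact Or.inl (teichmuller_coeff_pos p a n hn)

theorem isDist_iff (ξ : 𝕎 B) : IsDist ξ ↔ IsUnit (ξ.coeff 1) := by
  constructor
  · rintro ⟨η, hη, h⟩
    rw [coeff_one_eq h]
    exact ((isUnit_iff η).1 hη).pow p
  · intro h
    obtain ⟨η, hη⟩ := exists_eq_add ξ
    refine ⟨η, ?_, hη⟩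
    rw [coeff_one_eq hη, isUnit_pow_iff hp.out.ne_zero] at h
    exact (isUnit_iff η).2 h

theorem isDist_teichmuller_add (a : B) {η : 𝕎 B} (hη : IsUnit η) :
    IsDist (teichmuller p a + (p : 𝕎 B) * η) := by
  rw [isDist_iff, coeff_one_eq rfl]
  exact ((isUnit_iff η).1 hη).pow p

omit [PerfectRing B p] in
theorem coeff_zero_teichmuller_add (a : B) (η : 𝕎 B) :
    (teichmuller p a + (p : 𝕎 B) * η).coeff 0 = a := by
  rw [coeff_zero_add, teichmuller_coeff_zero, coeff_zero_p_mul, add_zero]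

variable {ξ : WittVector p B}

include p in
theorem eq_zero_of_mul_self {b : B} (h : b * b = 0) : b = 0 := by
  refine injective_frobenius B p ?_
  rw [map_zero, frobenius_def]
  obtain ⟨n, hn⟩ := Nat.exists_eq_add_of_le hp.out.two_le
  rw [hn, pow_add, pow_two, h, zero_mul]

theorem dvd_of_sq_dvd_mul (h : IsDist ξ) (y : 𝕎 B) (hy : (p : 𝕎 B) ^ 2 ∣ ξ * y) : (p : 𝕎 B) ∣ y := by
  obtain ⟨η, hη, hξ⟩ := h
  obtain ⟨x, hx⟩ := hy
  obtain ⟨y', hy'⟩ := exists_eq_add y
  set a := ξ.coeff 0 with ha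
  set b := y.coeff 0 with hb
  have h0 : a * b = 0 := by
    have h1 := congrArg (fun z : 𝕎 B => z.coeff 0) hx
    simp only [coeff_zero_mul] at h1
    rw [h1, pow_two, coeff_zero_p_mul, zero_mul]
  have h1 : η * teichmuller p b + ξ * y' = p * x := by
    apply eq_of_p_mul
    have h2 : ξ * y = teichmuller p (a * b) + p * (η * teichmuller p b + ξ * y') := by
      rw [map_mul]
      conv_lhs => rw [hy', mul_add]
      conv_lhs => rw [hξ]
      conv_rhs => rw [hξ]
      ring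
    rw [h0, teichmuller_zero, zero_add] at h2
    rw [← h2, hx]
    ring
  have h2 : η.coeff 0 * b + a * y'.coeff 0 = 0 := by
    have h3 := congrArg (fun z : 𝕎 B => z.coeff 0) h1
    simp only [coeff_zero_add, coeff_zero_mul, teichmuller_coeff_zero] at h3
    rw [h3, coeff_p_zero, zero_mul]
  have h3 : a * y'.coeff 0 = 0 := by
    refine eq_zero_of_mul_self (p := p) ?_
    have h4 : a * y'.coeff 0 * (a * y'.coeff 0) =
        y'.coeff 0 * (a * (η.coeff 0 * b + a * y'.coeff 0)) - y'.coeff 0 * η.coeff 0 * (a * b) := by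
      ring
    rw [h4, h2, h0]
    ring
  rw [h3, add_zero] at h2
  have h5 : b = 0 := by
    obtain ⟨c, hc⟩ := ((isUnit_iff η).1 hη).exists_left_inv
    calc b = (c * η.coeff 0) * b := by rw [hc, one_mul]
      _ = c * (η.coeff 0 * b) := by ring
      _ = 0 := by rw [h2, mul_zero]
  exact (p_dvd_iff y).2 h5

theorem dvd_of_dvd_mul (h : IsDist ξ) (n : ℕ) (y : 𝕎 B) (hy : (p : 𝕎 B) ^ (n + 1) ∣ ξ * y) :
    (p : 𝕎 B) ^ n ∣ y := by
  induction n generalizing y with
  | zero => simp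
  | succ n ih =>
    obtain ⟨y', rfl⟩ := dvd_of_sq_dvd_mul h y ((pow_dvd_pow _ (by omega)).trans hy)
    rw [pow_succ']
    refine mul_dvd_mul_left _ (ih y' ?_)
    obtain ⟨x, hx⟩ := hy
    refine ⟨x, eq_of_p_mul ?_⟩
    calc (p : 𝕎 B) * (ξ * y') = ξ * (p * y') := by ring
      _ = p ^ (n + 1 + 1) * x := hx
      _ = _ := by ring

/-- in `W(B)/ξ` the `p`-power torsion is killed by `p`. -/
theorem p_mul_eq_zero (h : IsDist ξ) (n : ℕ) (x : 𝕎 B ⧸ span {ξ})
    (hx : (p : 𝕎 B ⧸ span {ξ}) ^ n * x = 0) : (p : 𝕎 B ⧸ span {ξ}) * x = 0 := by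
  obtain ⟨x, rfl⟩ := Ideal.Quotient.mk_surjective x
  rcases n with _ | n
  · rw [pow_zero, one_mul] at hx
    rw [hx, mul_zero]
  have h1 : Ideal.Quotient.mk (span {ξ}) ((p : 𝕎 B) ^ (n + 1) * x) = 0 := by
    rw [map_mul, map_pow, map_natCast]
    exact hx
  rw [Ideal.Quotient.eq_zero_iff_mem, Ideal.mem_span_singleton] at h1
  obtain ⟨y, hy⟩ := h1
  obtain ⟨y', rfl⟩ := dvd_of_dvd_mul h n y ⟨x, hy.symm⟩
  have h2 : (p : 𝕎 B) * x = ξ * y' := by
    apply eq_of_p_pow_mul n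
    calc (p : 𝕎 B) ^ n * (p * x) = p ^ (n + 1) * x := by ring
      _ = _ := by rw [hy]; ring
  have h3 : Ideal.Quotient.mk (span {ξ}) ((p : 𝕎 B) * x) = 0 := by
    rw [h2, Ideal.Quotient.eq_zero_iff_mem]
    exact Ideal.mul_mem_right _ _ (Ideal.mem_span_singleton_self ξ)
  rwa [map_mul, map_natCast] at h3

/-- if `ξ₀` is a nonzerodivisor then `W(B)/ξ` is `p`-torsion free. -/
theorem eq_zero_of_p_mul (h0 : ξ.coeff 0 ∈ nonZeroDivisors B) (x : 𝕎 B ⧸ span {ξ})
    (hx : (p : 𝕎 B ⧸ span {ξ}) * x = 0) : x = 0 := by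
  obtain ⟨x, rfl⟩ := Ideal.Quotient.mk_surjective x
  have h1 : Ideal.Quotient.mk (span {ξ}) ((p : 𝕎 B) * x) = 0 := by
    rw [map_mul, map_natCast]
    exact hx
  rw [Ideal.Quotient.eq_zero_iff_mem, Ideal.mem_span_singleton] at h1
  obtain ⟨y, hy⟩ := h1
  have h2 : ξ.coeff 0 * y.coeff 0 = 0 := by
    rw [← coeff_zero_mul, ← hy, coeff_zero_p_mul]
  have h3 : y.coeff 0 = 0 := by
    rw [mul_comm] at h2
    exact (mem_nonZeroDivisors_iff_right.1 h0) _ h2
  obtain ⟨y', rfl⟩ := (p_dvd_iff y).2 h3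
  have h4 : x = ξ * y' := eq_of_p_mul (by rw [hy]; ring)
  rw [h4, Ideal.Quotient.eq_zero_iff_mem]
  exact Ideal.mul_mem_right _ _ (Ideal.mem_span_singleton_self ξ)

/-- `W(B)/ξ` is `p`-adically complete and separated. -/
theorem isAdicComplete (h : IsDist ξ) :
    IsAdicComplete (span {(p : 𝕎 B ⧸ span {ξ})}) (𝕎 B ⧸ span {ξ}) := by
  have hmem : ∀ (k : ℕ) (x : 𝕎 B), x ∈ (span {(p : 𝕎 B)} ^ k • ⊤ : Submodule (𝕎 B) (𝕎 B)) ↔
      (p : 𝕎 B) ^ k ∣ x := by
    intro k x
    rw [smul_eq_mul, Ideal.mul_top, Ideal.span_singleton_pow, Ideal.mem_span_singleton]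
  have hmem' : ∀ (k : ℕ) (x : 𝕎 B ⧸ span {ξ}),
      x ∈ (span {(p : 𝕎 B ⧸ span {ξ})} ^ k • ⊤ : Submodule (𝕎 B ⧸ span {ξ}) (𝕎 B ⧸ span {ξ})) ↔
      (p : 𝕎 B ⧸ span {ξ}) ^ k ∣ x := by
    intro k x
    rw [smul_eq_mul, Ideal.mul_top, Ideal.span_singleton_pow, Ideal.mem_span_singleton]
  have hprec : ∀ f : ℕ → 𝕎 B, (∀ n, (p : 𝕎 B) ^ n ∣ f (n + 1) - f n) →
      ∃ L, ∀ n, (p : 𝕎 B) ^ n ∣ f n - L := by
    intro f hf
    have hf' : ∀ m n, m ≤ n → (p : 𝕎 B) ^ m ∣ f n - f m := by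
      intro m n hmn
      induction n, hmn using Nat.le_induction with
      | base => simp
      | succ n hn ih =>
        have : f (n + 1) - f m = (f (n + 1) - f n) + (f n - f m) := by ring
        rw [this]
        exact dvd_add ((pow_dvd_pow _ hn).trans (hf n)) ih
    obtain ⟨L, hL⟩ := IsPrecomplete.prec
      (IsAdicComplete.toIsPrecomplete (I := span {(p : 𝕎 B)}) (M := 𝕎 B)) (f := f) (by
        intro m n hmn
        rw [SModEq.comm, SModEq.sub_mem, hmem]
        exact hf' m n hmn)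
    refine ⟨L, fun n => ?_⟩
    have := hL n
    rwa [SModEq.sub_mem, hmem] at this
  have hhaus : ∀ x : 𝕎 B, (∀ n, (p : 𝕎 B) ^ n ∣ x) → x = 0 := by
    intro x hx
    refine IsHausdorff.haus (IsAdicComplete.toIsHausdorff (I := span {(p : 𝕎 B)}) (M := 𝕎 B)) x ?_
    intro n
    rw [SModEq.zero, hmem]
    exact hx n
  have hH : IsHausdorff (span {(p : 𝕎 B ⧸ span {ξ})}) (𝕎 B ⧸ span {ξ}) := by
    refine ⟨fun x hx => ?_⟩
    obtain ⟨x, rfl⟩ := Ideal.Quotient.mk_surjective x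
    have h1 : ∀ n : ℕ, ∃ yz : 𝕎 B × 𝕎 B, x = ξ * yz.1 + (p : 𝕎 B) ^ n * yz.2 := by
      intro n
      have h2 := hx n
      rw [SModEq.zero, hmem'] at h2
      obtain ⟨z, hz⟩ := h2
      obtain ⟨z, rfl⟩ := Ideal.Quotient.mk_surjective z
      have h3 : Ideal.Quotient.mk (span {ξ}) (x - (p : 𝕎 B) ^ n * z) = 0 := by
        rw [map_sub, hz, map_mul, map_pow, map_natCast, sub_self]
      rw [Ideal.Quotient.eq_zero_iff_mem, Ideal.mem_span_singleton] at h3
      obtain ⟨y, hy⟩ := h3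
      exact ⟨⟨y, z⟩, by rw [← hy]; ring⟩
    choose yz hyz using h1
    obtain ⟨L, hL⟩ := hprec (fun n => (yz (n + 1)).1) (by
      intro n
      refine dvd_of_dvd_mul h n _ ?_
      refine ⟨(yz (n + 1)).2 - p * (yz (n + 2)).2, ?_⟩
      have h2 := hyz (n + 1)
      have h3 := hyz (n + 1 + 1)
      have h4 : ξ * (yz (n + 1 + 1)).1 = x - (p : 𝕎 B) ^ (n + 1 + 1) * (yz (n + 1 + 1)).2 := by
        rw [← sub_eq_iff_eq_add.2 h3]
      have h5 : ξ * (yz (n + 1)).1 = x - (p : 𝕎 B) ^ (n + 1) * (yz (n + 1)).2 := by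
        rw [← sub_eq_iff_eq_add.2 h2]
      rw [mul_sub, h4, h5]
      ring)
    have h6 : x - ξ * L = 0 := by
      refine hhaus _ fun n => ?_
      have h7 : x - ξ * L = ξ * ((yz (n + 1)).1 - L) + (p : 𝕎 B) ^ n * (p * (yz (n + 1)).2) := by
        conv_lhs => rw [hyz (n + 1)]
        ring
      rw [h7]
      exact dvd_add ((hL n).mul_left _) (dvd_mul_right _ _)
    rw [sub_eq_zero] at h6
    rw [h6, Ideal.Quotient.eq_zero_iff_mem]
    exact Ideal.mul_mem_right _ _ (Ideal.mem_span_singleton_self ξ)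
  have hP : IsPrecomplete (span {(p : 𝕎 B ⧸ span {ξ})}) (𝕎 B ⧸ span {ξ}) := by
    refine ⟨fun f hf => ?_⟩
    have h1 : ∀ n : ℕ, ∃ z : 𝕎 B, f (n + 1) - f n = Ideal.Quotient.mk (span {ξ}) ((p : 𝕎 B) ^ n * z) := by
      intro n
      have h2 := hf (Nat.le_succ n)
      rw [SModEq.comm, SModEq.sub_mem, hmem'] at h2
      obtain ⟨z, hz⟩ := h2
      obtain ⟨z, rfl⟩ := Ideal.Quotient.mk_surjective z
      exact ⟨z, by rw [map_mul, map_pow, map_natCast]; exact hz⟩
    choose z hz using h1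
    obtain ⟨g0, hg0⟩ := Ideal.Quotient.mk_surjective (f 0)
    let g : ℕ → 𝕎 B := fun n => g0 + ∑ i ∈ Finset.range n, (p : 𝕎 B) ^ i * z i
    have hg : ∀ n, Ideal.Quotient.mk (span {ξ}) (g n) = f n := by
      intro n
      induction n with
      | zero => simpa [g] using hg0
      | succ n ih =>
        have : g (n + 1) = g n + (p : 𝕎 B) ^ n * z n := by
          simp only [g, Finset.sum_range_succ]
          ring
        rw [this, map_add, ih, ← hz n]
        ring
    obtain ⟨L, hL⟩ := hprec g (by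
      intro n
      have : g (n + 1) - g n = (p : 𝕎 B) ^ n * z n := by
        simp only [g, Finset.sum_range_succ]
        ring
      rw [this]
      exact dvd_mul_right _ _)
    refine ⟨Ideal.Quotient.mk _ L, fun n => ?_⟩
    rw [SModEq.sub_mem, hmem', ← hg n, ← map_sub]
    obtain ⟨w, hw⟩ := hL n
    rw [hw, map_mul, map_pow, map_natCast]
    exact dvd_mul_right _ _
  exact { hH, hP with }

/-- the reduction `W(B)/ξ → B/ξ₀`. -/
noncomputable def red (ξ : WittVector p B) : WittVector p B ⧸ span {ξ} →+* B ⧸ span {ξ.coeff 0} :=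
  Ideal.Quotient.lift _ ((Ideal.Quotient.mk _).comp (constantCoeff (p := p) (R := B))) (by
    intro x hx
    obtain ⟨y, rfl⟩ := Ideal.mem_span_singleton.1 hx
    rw [RingHom.comp_apply, map_mul, Ideal.Quotient.eq_zero_iff_mem]
    exact Ideal.mul_mem_right _ _ (Ideal.mem_span_singleton_self (ξ.coeff 0)))

omit [CharP B p] [PerfectRing B p] in
theorem red_mk (x : 𝕎 B) : red ξ (Ideal.Quotient.mk _ x) = Ideal.Quotient.mk _ (x.coeff 0) := rfl

theorem red_surjective : Function.Surjective (red ξ) := by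
  intro b
  obtain ⟨b, rfl⟩ := Ideal.Quotient.mk_surjective b
  exact ⟨Ideal.Quotient.mk _ (teichmuller p b), by rw [red_mk, teichmuller_coeff_zero]⟩

theorem ker_red : RingHom.ker (red ξ) = span {(p : 𝕎 B ⧸ span {ξ})} := by
  refine le_antisymm (fun x hx => ?_) ?_
  · obtain ⟨x, rfl⟩ := Ideal.Quotient.mk_surjective x
    rw [RingHom.mem_ker, red_mk, Ideal.Quotient.eq_zero_iff_mem, Ideal.mem_span_singleton] at hx
    obtain ⟨b, hb⟩ := hx
    have h1 : (p : 𝕎 B) ∣ x - ξ * teichmuller p b := by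
      rw [p_dvd_iff]
      have h2 : constantCoeff (x - ξ * teichmuller p b) = 0 := by
        rw [map_sub, map_mul]
        change x.coeff 0 - ξ.coeff 0 * (teichmuller p b).coeff 0 = 0
        rw [teichmuller_coeff_zero, hb, sub_self]
      exact h2
    obtain ⟨y, hy⟩ := h1
    have h3 : Ideal.Quotient.mk (span {ξ}) x = p * Ideal.Quotient.mk (span {ξ}) y := by
      rw [sub_eq_iff_eq_add.1 hy, map_add, map_mul, map_mul, map_natCast]
      have : Ideal.Quotient.mk (span {ξ}) ξ = 0 :=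
        Ideal.Quotient.eq_zero_iff_mem.2 (Ideal.mem_span_singleton_self ξ)
      rw [this, zero_mul, add_zero]
    rw [h3]
    exact Ideal.mul_mem_right _ _ (Ideal.mem_span_singleton_self _)
  · rw [Ideal.span_singleton_le_iff_mem, RingHom.mem_ker, map_natCast]
    have h1 : ((p : ℕ) : B) = 0 := CharP.cast_eq_zero B p
    rw [← map_natCast (Ideal.Quotient.mk (span {ξ.coeff 0})) p, h1, map_zero]

/-- `(W(B)/ξ)/p ≃ B/ξ₀` -/
noncomputable def quotEquiv (ξ : WittVector p B) :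
    ((WittVector p B ⧸ span {ξ}) ⧸ span {(p : WittVector p B ⧸ span {ξ})}) ≃+* B ⧸ span {ξ.coeff 0} :=
  (Ideal.quotEquivOfEq (ker_red (ξ := ξ)).symm).trans
    (RingHom.quotientKerEquivOfSurjective red_surjective)

theorem quotEquiv_mk (x : 𝕎 B ⧸ span {ξ}) : quotEquiv ξ (Ideal.Quotient.mk _ x) = red ξ x := rfl

end

section Map

variable {B' : Type v} [CommRing B']

theorem IsDist.map [CharP B p] [PerfectRing B p] [CharP B' p] [PerfectRing B' p] {ξ : WittVector p B}
    (h : IsDist ξ) (f : B →+* B') : IsDist (WittVector.map f ξ) := by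
  rw [isDist_iff] at h ⊢
  rw [map_coeff]
  exact h.map f

/-- functoriality of `B ↦ W(B)/ξ` -/
noncomputable def sharpMap (ξ : WittVector p B) (f : B →+* B') :
    WittVector p B ⧸ span {ξ} →+* WittVector p B' ⧸ span {WittVector.map f ξ} :=
  Ideal.quotientMap _ (WittVector.map f) (by
    rw [Ideal.span_singleton_le_iff_mem, Ideal.mem_comap]
    exact Ideal.mem_span_singleton_self _)

theorem sharpMap_mk (ξ : WittVector p B) (f : B →+* B') (x : WittVector p B) :
    sharpMap ξ f (Ideal.Quotient.mk _ x) = Ideal.Quotient.mk _ (WittVector.map f x) := rfl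

end Map

end K148.Prim
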