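import Mathlib.RingTheory.Perfectoid.FontaineTheta
import Mathlib.RingTheory.TensorProduct.Maps
import Groth.Agent.EtDual.K148.Prim

/-!
# Witt vectors of perfect rings: the universal property of `W_r` and pushouts

`lift_unique`, `exists_lift`: for `T` perfect of characteristic `p` and `p` nilpotent in `O`, ring maps
`W(T) → O` are the same as ring maps `T → O/p`.
`pushout`: `W(B₁ ⊗_B B₂)` is the pushout of `W(B₁) ← W(B) → W(B₂)` for maps to rings where `p` is
nilpotent.
-/

set_option autoImplicit false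

universe u v w

open WittVector Ideal TensorProduct

namespace K148.Lift

variable {p : ℕ} [hp : Fact p.Prime]

section Lift

variable {T : Type u} [CommRing T] [CharP T p] [PerfectRing T p] {O : Type v} [CommRing O]

theorem lift_unique (hO : IsNilpotent (p : O)) (φ ψ : WittVector p T →+* O)
    (h : ∀ x, Ideal.Quotient.mk (span {(p : O)}) (φ x) = Ideal.Quotient.mk (span {(p : O)}) (ψ x)) :
    φ = ψ := by
  refine eq_of_apply_teichmuller_eq φ ψ hO fun t => ?_
  obtain ⟨n, hn⟩ := hO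
  obtain ⟨s, rfl⟩ : ∃ s : T, s ^ p ^ n = t := by
    obtain ⟨s, hs⟩ := (bijective_iterateFrobenius T p n).2 t
    exact ⟨s, hs⟩
  rw [map_pow, map_pow, map_pow]
  have h1 : (p : O) ∣ φ (teichmuller p s) - ψ (teichmuller p s) := by
    rw [← Ideal.mem_span_singleton]
    exact Ideal.Quotient.eq.1 (h _)
  have h2 := dvd_sub_pow_of_dvd_sub h1 n
  rw [pow_succ, hn, zero_mul, zero_dvd_iff, sub_eq_zero] at h2
  exact h2

theorem exists_lift (hO : IsNilpotent (p : O)) (g : T →+* O ⧸ span {(p : O)}) :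
    ∃ φ : WittVector p T →+* O, ∀ x, Ideal.Quotient.mk (span {(p : O)}) (φ x) = g (x.coeff 0) := by
  obtain ⟨n, hn⟩ := hO
  have hbot : span {(p : O)} ^ (n + 1) = ⊥ := by
    rw [Ideal.span_singleton_pow, pow_succ, hn, zero_mul, Ideal.span_singleton_eq_bot]
  let e : O ⧸ span {(p : O)} ^ (n + 1) ≃+* O := (Ideal.quotEquivOfEq hbot).trans (RingEquiv.quotientBot O)
  have he : ∀ o : O, e (Ideal.Quotient.mk _ o) = o := fun o => rfl
  let F : T →+* T := (iterateFrobeniusEquiv T p n).symm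
  have hF : ∀ t, (F t) ^ p ^ n = t := fun t => (iterateFrobeniusEquiv T p n).apply_symm_apply t
  let φ : WittVector p T →+* O := (e : _ →+* O).comp
    ((ghostComponentModPPow n).comp ((WittVector.map g).comp (WittVector.map F)))
  refine ⟨φ, fun x => ?_⟩
  have key : (Ideal.Quotient.mk (span {(p : O)})).comp φ = g.comp (constantCoeff (p := p) (R := T)) := by
    refine eq_of_apply_teichmuller_eq _ _ ⟨1, ?_⟩ fun t => ?_
    · rw [pow_one, ← map_natCast (Ideal.Quotient.mk (span {(p : O)})), Ideal.Quotient.eq_zero_iff_mem]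
      exact Ideal.mem_span_singleton_self _
    · obtain ⟨o, ho⟩ := Ideal.Quotient.mk_surjective (g (F t))
      have h1 : φ (teichmuller p t) = o ^ p ^ n := by
        change e (ghostComponentModPPow n (WittVector.map g (WittVector.map F (teichmuller p t)))) = _
        rw [map_teichmuller, map_teichmuller, ← ho, ← map_teichmuller, ghostComponentModPPow_map_mk,
          ghostComponent_teichmuller, he]
      rw [RingHom.comp_apply, h1, map_pow, ho, ← map_pow, hF, RingHom.comp_apply]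
      exact congrArg g (teichmuller_coeff_zero p t).symm
  exact RingHom.congr_fun key x

end Lift

section Bar

variable {T : Type u} [CommRing T] [CharP T p] [PerfectRing T p] {O : Type v} [CommRing O]

/-- the reduction modulo `p` of a ring map `W(T) → O` -/
noncomputable def bar (φ : WittVector p T →+* O) : T →+* O ⧸ span {(p : O)} :=
  (Ideal.quotientMap (I := span {(p : WittVector p T)}) (span {(p : O)}) φ (by
    rw [Ideal.span_singleton_le_iff_mem, Ideal.mem_comap, map_natCast]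
    exact Ideal.mem_span_singleton_self _)).comp
    ((quotientPEquiv (p := p) (k := T)).symm : T →+* _)

theorem bar_coeff (φ : WittVector p T →+* O) (x : WittVector p T) :
    bar φ (x.coeff 0) = Ideal.Quotient.mk _ (φ x) := by
  have h : (quotientPEquiv (p := p) (k := T)).symm (x.coeff 0) = Ideal.Quotient.mk _ x := by
    rw [RingEquiv.symm_apply_eq]
    rfl
  unfold bar
  rw [RingHom.comp_apply]
  change Ideal.quotientMap _ φ (by
    rw [Ideal.span_singleton_le_iff_mem, Ideal.mem_comap, map_natCast]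
    exact Ideal.mem_span_singleton_self _) ((quotientPEquiv (p := p) (k := T)).symm (x.coeff 0)) = _
  rw [h]
  rfl

end Bar

section Tensor

/-- ring maps out of a tensor product -/
theorem exists_ringHom {B : Type u} {B₁ : Type v} {B₂ : Type w} {O : Type*} [CommRing B] [CommRing B₁]
    [CommRing B₂] [CommRing O] [Algebra B B₁] [Algebra B B₂] (f : B₁ →+* O) (g : B₂ →+* O)
    (h : ∀ b, f (algebraMap B B₁ b) = g (algebraMap B B₂ b)) :
    ∃ τ : B₁ ⊗[B] B₂ →+* O, (∀ x, τ (x ⊗ₜ 1) = f x) ∧ ∀ y, τ (1 ⊗ₜ y) = g y := by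
  let _ : Algebra B O := (f.comp (algebraMap B B₁)).toAlgebra
  let f₁ : B₁ →ₐ[B] O := { f with commutes' := fun b => rfl }
  let f₂ : B₂ →ₐ[B] O := { g with commutes' := fun b => (h b).symm }
  exact ⟨(Algebra.TensorProduct.productMap f₁ f₂).toRingHom,
    fun x => Algebra.TensorProduct.productMap_left_apply f₁ f₂ x,
    fun y => Algebra.TensorProduct.productMap_right_apply f₁ f₂ y⟩

theorem ringHom_ext' {B : Type u} {B₁ : Type v} {B₂ : Type w} {O : Type*} [CommRing B] [CommRing B₁]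
    [CommRing B₂] [CommRing O] [Algebra B B₁] [Algebra B B₂] {φ ψ : B₁ ⊗[B] B₂ →+* O}
    (h₁ : ∀ x : B₁, φ (x ⊗ₜ 1) = ψ (x ⊗ₜ 1)) (h₂ : ∀ y : B₂, φ (1 ⊗ₜ y) = ψ (1 ⊗ₜ y)) : φ = ψ :=
  Algebra.TensorProduct.ringHom_ext (RingHom.ext h₁) (RingHom.ext h₂)

variable (p) in
/-- the tensor product of two perfect rings is perfect. -/
theorem perfectRing_tensor (B B₁ B₂ : Type u) [CommRing B] [CommRing B₁] [CommRing B₂] [Algebra B B₁]
    [Algebra B B₂] (hB : (p : B) = 0) [PerfectRing B p] [PerfectRing B₁ p] [PerfectRing B₂ p] :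
    PerfectRing (B₁ ⊗[B] B₂) p := by
  classical
  rcases subsingleton_or_nontrivial (B₁ ⊗[B] B₂) with hT | hT
  · exact ⟨⟨fun x y _ => Subsingleton.elim x y, fun y => ⟨y, Subsingleton.elim _ _⟩⟩⟩
  have hnB : Nontrivial B := (algebraMap B (B₁ ⊗[B] B₂)).domain_nontrivial
  have hnB₁ : Nontrivial B₁ :=
    (Algebra.TensorProduct.includeLeft : B₁ →ₐ[B] B₁ ⊗[B] B₂).toRingHom.domain_nontrivial
  have hnB₂ : Nontrivial B₂ :=
    (Algebra.TensorProduct.includeRight : B₂ →ₐ[B] B₁ ⊗[B] B₂).toRingHom.domain_nontrivial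
  have hcB : CharP B p := (CharP.charP_iff_prime_eq_zero hp.out).2 hB
  have hz₁ : (p : B₁) = 0 := by rw [← map_natCast (algebraMap B B₁), hB, map_zero]
  have hz₂ : (p : B₂) = 0 := by rw [← map_natCast (algebraMap B B₂), hB, map_zero]
  have hzT : (p : B₁ ⊗[B] B₂) = 0 := by rw [← map_natCast (algebraMap B (B₁ ⊗[B] B₂)), hB, map_zero]
  have hcB₁ : CharP B₁ p := (CharP.charP_iff_prime_eq_zero hp.out).2 hz₁
  have hcB₂ : CharP B₂ p := (CharP.charP_iff_prime_eq_zero hp.out).2 hz₂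
  have hcT : CharP (B₁ ⊗[B] B₂) p := (CharP.charP_iff_prime_eq_zero hp.out).2 hzT
  let σ : B →+* B := (frobeniusEquiv B p).symm
  let σ₁ : B₁ →+* B₁ := (frobeniusEquiv B₁ p).symm
  let σ₂ : B₂ →+* B₂ := (frobeniusEquiv B₂ p).symm
  have hσ : ∀ x, σ x ^ p = x := fun x => frobeniusEquiv_symm_pow_p B p x
  have hσ₁ : ∀ x, σ₁ x ^ p = x := fun x => frobeniusEquiv_symm_pow_p B₁ p x
  have hσ₂ : ∀ x, σ₂ x ^ p = x := fun x => frobeniusEquiv_symm_pow_p B₂ p x
  have h1 : ∀ b, σ₁ (algebraMap B B₁ b) = algebraMap B B₁ (σ b) := by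
    intro b
    apply injective_frobenius B₁ p
    rw [frobenius_def, frobenius_def, hσ₁, ← map_pow, hσ]
  have h2 : ∀ b, σ₂ (algebraMap B B₂ b) = algebraMap B B₂ (σ b) := by
    intro b
    apply injective_frobenius B₂ p
    rw [frobenius_def, frobenius_def, hσ₂, ← map_pow, hσ]
  -- the inverse of Frobenius on the tensor product
  have hLR : ∀ b : B, (algebraMap B B₁ b) ⊗ₜ[B] (1 : B₂) = (1 : B₁) ⊗ₜ[B] (algebraMap B B₂ b) := fun b => by
    rw [Algebra.algebraMap_eq_smul_one, Algebra.algebraMap_eq_smul_one, TensorProduct.smul_tmul]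
  let iL : B₁ →+* B₁ ⊗[B] B₂ := (Algebra.TensorProduct.includeLeft : B₁ →ₐ[B] B₁ ⊗[B] B₂)
  let iR : B₂ →+* B₁ ⊗[B] B₂ := (Algebra.TensorProduct.includeRight : B₂ →ₐ[B] B₁ ⊗[B] B₂)
  obtain ⟨τ, hτL, hτR⟩ := exists_ringHom (B := B) (iL.comp σ₁) (iR.comp σ₂) (by
    intro b
    rw [RingHom.comp_apply, RingHom.comp_apply, h1, h2]
    exact hLR (σ b))
  have hcomp : (frobenius (B₁ ⊗[B] B₂) p).comp τ = RingHom.id _ := by
    refine ringHom_ext' ?_ ?_
    · intro x
      rw [RingHom.comp_apply, hτL, RingHom.comp_apply, frobenius_def, ← map_pow, hσ₁]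
      rfl
    · intro x
      rw [RingHom.comp_apply, hτR, RingHom.comp_apply, frobenius_def, ← map_pow, hσ₂]
      rfl
  have hr : ∀ x, τ x ^ p = x := fun x => RingHom.congr_fun hcomp x
  refine ⟨⟨fun x y hxy => ?_, fun y => ⟨τ y, hr y⟩⟩⟩
  have hxy' : x ^ p = y ^ p := hxy
  rw [← hr x, ← hr y, ← map_pow, ← map_pow, hxy']

variable {B B₁ B₂ : Type u} [CommRing B] [CommRing B₁] [CommRing B₂] [Algebra B B₁] [Algebra B B₂]
  {O : Type v} [CommRing O]

/-- uniqueness in the pushout property of `W(B₁ ⊗_B B₂)` -/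
theorem pushout_unique [CharP (B₁ ⊗[B] B₂) p] [PerfectRing (B₁ ⊗[B] B₂) p] (hO : IsNilpotent (p : O))
    (φ ψ : WittVector p (B₁ ⊗[B] B₂) →+* O)
    (h₁ : ∀ x : WittVector p B₁,
      φ (WittVector.map (Algebra.TensorProduct.includeLeft : B₁ →ₐ[B] B₁ ⊗[B] B₂).toRingHom x) =
      ψ (WittVector.map (Algebra.TensorProduct.includeLeft : B₁ →ₐ[B] B₁ ⊗[B] B₂).toRingHom x))
    (h₂ : ∀ x : WittVector p B₂,
      φ (WittVector.map (Algebra.TensorProduct.includeRight : B₂ →ₐ[B] B₁ ⊗[B] B₂).toRingHom x) =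
      ψ (WittVector.map (Algebra.TensorProduct.includeRight : B₂ →ₐ[B] B₁ ⊗[B] B₂).toRingHom x)) :
    φ = ψ := by
  refine lift_unique hO φ ψ fun x => ?_
  rw [← bar_coeff, ← bar_coeff]
  refine RingHom.congr_fun (?_ : bar φ = bar ψ) _
  refine ringHom_ext' (fun y => ?_) fun y => ?_
  · have h := bar_coeff φ (WittVector.map (Algebra.TensorProduct.includeLeft : B₁ →ₐ[B] B₁ ⊗[B] B₂).toRingHom
      (teichmuller p y))
    have h' := bar_coeff ψ (WittVector.map (Algebra.TensorProduct.includeLeft : B₁ →ₐ[B] B₁ ⊗[B] B₂).toRingHom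
      (teichmuller p y))
    rw [map_coeff, teichmuller_coeff_zero] at h h'
    change bar φ ((Algebra.TensorProduct.includeLeft : B₁ →ₐ[B] B₁ ⊗[B] B₂).toRingHom y) =
      bar ψ ((Algebra.TensorProduct.includeLeft : B₁ →ₐ[B] B₁ ⊗[B] B₂).toRingHom y)
    rw [h, h', h₁]
  · have h := bar_coeff φ (WittVector.map (Algebra.TensorProduct.includeRight : B₂ →ₐ[B] B₁ ⊗[B] B₂).toRingHom
      (teichmuller p y))
    have h' := bar_coeff ψ (WittVector.map (Algebra.TensorProduct.includeRight : B₂ →ₐ[B] B₁ ⊗[B] B₂).toRingHom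
      (teichmuller p y))
    rw [map_coeff, teichmuller_coeff_zero] at h h'
    change bar φ ((Algebra.TensorProduct.includeRight : B₂ →ₐ[B] B₁ ⊗[B] B₂).toRingHom y) =
      bar ψ ((Algebra.TensorProduct.includeRight : B₂ →ₐ[B] B₁ ⊗[B] B₂).toRingHom y)
    rw [h, h', h₂]

/-- existence in the pushout property of `W(B₁ ⊗_B B₂)` -/
theorem pushout_exists [CharP B₁ p] [PerfectRing B₁ p] [CharP B₂ p] [PerfectRing B₂ p]
    [CharP (B₁ ⊗[B] B₂) p] [PerfectRing (B₁ ⊗[B] B₂) p] (hO : IsNilpotent (p : O))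
    (u : WittVector p B₁ →+* O) (v : WittVector p B₂ →+* O)
    (huv : ∀ x : WittVector p B, u (WittVector.map (algebraMap B B₁) x) =
      v (WittVector.map (algebraMap B B₂) x)) :
    ∃ φ : WittVector p (B₁ ⊗[B] B₂) →+* O,
      (∀ x, φ (WittVector.map (Algebra.TensorProduct.includeLeft : B₁ →ₐ[B] B₁ ⊗[B] B₂).toRingHom x) = u x) ∧
      ∀ y, φ (WittVector.map (Algebra.TensorProduct.includeRight : B₂ →ₐ[B] B₁ ⊗[B] B₂).toRingHom y) =
        v y := by
  obtain ⟨g, hg₁, hg₂⟩ := exists_ringHom (B := B) (bar u) (bar v) (by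
    intro b
    have h := bar_coeff u (WittVector.map (algebraMap B B₁) (teichmuller p b))
    have h' := bar_coeff v (WittVector.map (algebraMap B B₂) (teichmuller p b))
    rw [map_coeff, teichmuller_coeff_zero] at h h'
    rw [h, h', huv])
  obtain ⟨φ, hφ⟩ := exists_lift hO g
  refine ⟨φ, ?_, ?_⟩
  · refine RingHom.congr_fun (?_ : φ.comp (WittVector.map
      (Algebra.TensorProduct.includeLeft : B₁ →ₐ[B] B₁ ⊗[B] B₂).toRingHom) = u)
    refine lift_unique hO _ _ fun x => ?_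
    rw [RingHom.comp_apply, hφ, map_coeff, ← bar_coeff u x]
    exact hg₁ _
  · refine RingHom.congr_fun (?_ : φ.comp (WittVector.map
      (Algebra.TensorProduct.includeRight : B₂ →ₐ[B] B₁ ⊗[B] B₂).toRingHom) = v)
    refine lift_unique hO _ _ fun x => ?_
    rw [RingHom.comp_apply, hφ, map_coeff, ← bar_coeff v x]
    exact hg₂ _

end Tensor

end K148.Lift
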