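import Groth.Agent.EtDual.K148.Lift
import Mathlib.RingTheory.Henselian

/-!
# The results of `Prim` and `Lift` for `IsPerf p B` (the zero ring allowed)

`IsPerf p B` : `p = 0` in `B` and `x ↦ x ^ p` is bijective.
-/

set_option autoImplicit false

universe u v w

open WittVector Ideal TensorProduct

namespace K148.Perf

open K148.Prim K148.Lift

/-- `B` is a perfect ring of characteristic `p` (the zero ring is allowed). -/
structure IsPerf (p : ℕ) (B : Type u) [CommRing B] : Prop where
  cast : (p : B) = 0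
  bij : Function.Bijective (fun x : B => x ^ p)

variable {p : ℕ} [hp : Fact p.Prime] {B : Type u} [CommRing B]

omit hp in
theorem IsPerf.perfectRing (h : IsPerf p B) : PerfectRing B p := ⟨h.bij⟩

theorem IsPerf.charP [Nontrivial B] (h : IsPerf p B) : CharP B p :=
  (CharP.charP_iff_prime_eq_zero hp.out).2 h.cast

omit hp in
theorem isPerf_of_charP [CharP B p] [PerfectRing B p] : IsPerf p B :=
  ⟨CharP.cast_eq_zero B p, PerfectRing.bijective_frobenius⟩

omit hp in
theorem isPerf_of_subsingleton [Subsingleton B] : IsPerf p B :=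
  ⟨Subsingleton.elim _ _, ⟨fun x y _ => Subsingleton.elim x y, fun y => ⟨y, Subsingleton.elim _ _⟩⟩⟩

theorem IsPerf.elim (h : IsPerf p B) : Subsingleton B ∨ ∃ (_ : CharP B p), PerfectRing B p := by
  rcases subsingleton_or_nontrivial B with hB | hB
  · exact Or.inl hB
  · exact Or.inr ⟨h.charP, h.perfectRing⟩

instance subsingleton_witt [Subsingleton B] : Subsingleton (WittVector p B) :=
  ⟨fun x y => WittVector.ext fun n => Subsingleton.elim _ _⟩

theorem subsingleton_quot [Subsingleton B] (I : Ideal (WittVector p B)) :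
    Subsingleton (WittVector p B ⧸ I) :=
  ⟨fun x y => by
    obtain ⟨x, rfl⟩ := Ideal.Quotient.mk_surjective x
    obtain ⟨y, rfl⟩ := Ideal.Quotient.mk_surjective y
    rw [Subsingleton.elim x y]⟩

omit hp in
theorem IsPerf.pi {ι : Type v} {B : ι → Type u} [∀ i, CommRing (B i)] (h : ∀ i, IsPerf p (B i)) :
    IsPerf p (∀ i, B i) where
  cast := funext fun i => by
    rw [Pi.natCast_apply, (h i).cast]
    rfl
  bij := by
    refine ⟨fun x y hxy => funext fun i => (h i).bij.1 (congrFun hxy i), fun y => ?_⟩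
    choose x hx using fun i => (h i).bij.2 (y i)
    exact ⟨x, funext hx⟩

omit hp in
theorem IsPerf.of_ringEquiv {B' : Type v} [CommRing B'] (e : B ≃+* B') (h : IsPerf p B) : IsPerf p B' where
  cast := by rw [← map_natCast e, h.cast, map_zero]
  bij := by
    refine ⟨fun x y hxy => ?_, fun y => ?_⟩
    · have h1 : e.symm x ^ p = e.symm y ^ p := by
        rw [← map_pow, ← map_pow]
        exact congrArg e.symm hxy
      exact e.symm.injective (h.bij.1 h1)
    · obtain ⟨x, hx⟩ := h.bij.2 (e.symm y)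
      refine ⟨e x, ?_⟩
      have hx' : x ^ p = e.symm y := hx
      change e x ^ p = y
      rw [← map_pow, hx', RingEquiv.apply_symm_apply]

theorem IsPerf.eq_zero_of_pow (h : IsPerf p B) {x : B} {n : ℕ} (hx : x ^ n = 0) : x = 0 := by
  rcases h.elim with hs | ⟨_, _⟩
  · exact Subsingleton.elim _ _
  · obtain ⟨m, hm⟩ : ∃ m, n ≤ p ^ m := ⟨n, (Nat.lt_pow_self hp.out.one_lt).le⟩
    refine (bijective_iterateFrobenius B p m).1 ?_
    rw [map_zero, iterateFrobenius_def]
    exact pow_eq_zero_of_le hm hx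

omit hp in
theorem IsPerf.exists_root (h : IsPerf p B) (x : B) (n : ℕ) : ∃ y : B, y ^ p ^ n = x := by
  induction n with
  | zero => exact ⟨x, by rw [pow_zero, pow_one]⟩
  | succ n ih =>
    obtain ⟨y, rfl⟩ := ih
    obtain ⟨z, hz⟩ := h.bij.2 y
    refine ⟨z, ?_⟩
    have hz' : z ^ p = y := hz
    rw [pow_succ', pow_mul, hz']

/-- localizations of perfect rings are perfect -/
theorem IsPerf.localization (h : IsPerf p B) (M : Submonoid B) (C : Type v) [CommRing C] [Algebra B C]
    [IsLocalization M C] : IsPerf p C where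
  cast := by rw [← map_natCast (algebraMap B C), h.cast, map_zero]
  bij := by
    refine ⟨?_, fun y => ?_⟩
    · intro x y hxy
      have hxy' : x ^ p = y ^ p := hxy
      obtain ⟨a, s, rfl⟩ := IsLocalization.exists_mk'_eq M x
      obtain ⟨b, t, rfl⟩ := IsLocalization.exists_mk'_eq M y
      rw [IsLocalization.mk'_eq_iff_eq]
      rw [← IsLocalization.mk'_pow, ← IsLocalization.mk'_pow, IsLocalization.mk'_eq_iff_eq,
        IsLocalization.eq_iff_exists M] at hxy'
      obtain ⟨c, hc⟩ := hxy'
      rw [IsLocalization.eq_iff_exists M]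
      refine ⟨c, h.bij.1 ?_⟩
      change ((c : B) * ((t : B) * a)) ^ p = ((c : B) * ((s : B) * b)) ^ p
      obtain ⟨q, hq⟩ : ∃ q, p = q + 1 := ⟨p - 1, (Nat.succ_pred_eq_of_pos hp.out.pos).symm⟩
      calc ((c : B) * ((t : B) * a)) ^ p = (c : B) ^ q * ((c : B) * (((t ^ p : M) : B) * a ^ p)) := by
            rw [mul_pow, mul_pow, SubmonoidClass.coe_pow]
            conv_lhs => rw [show (c : B) ^ p = (c : B) ^ (q + 1) from by rw [← hq]]
            ring
        _ = (c : B) ^ q * ((c : B) * (((s ^ p : M) : B) * b ^ p)) := by rw [hc]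
        _ = _ := by
            rw [mul_pow, mul_pow, SubmonoidClass.coe_pow]
            conv_rhs => rw [show (c : B) ^ p = (c : B) ^ (q + 1) from by rw [← hq]]
            ring
    · obtain ⟨b, t, rfl⟩ := IsLocalization.exists_mk'_eq M y
      obtain ⟨q, hq⟩ : ∃ q, p = q + 1 := ⟨p - 1, (Nat.succ_pred_eq_of_pos hp.out.pos).symm⟩
      obtain ⟨c, hc⟩ := h.bij.2 (b * (t : B) ^ q)
      have hc' : c ^ p = b * (t : B) ^ q := hc
      refine ⟨IsLocalization.mk' C c t, ?_⟩
      change IsLocalization.mk' C c t ^ p = _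
      rw [← IsLocalization.mk'_pow, hc', IsLocalization.mk'_eq_iff_eq]
      congr 1
      rw [SubmonoidClass.coe_pow]
      conv_rhs => rw [hq]
      ring

/-- tensor products of perfect rings are perfect -/
theorem IsPerf.tensor {B₁ B₂ : Type u} [CommRing B₁] [CommRing B₂] [Algebra B B₁] [Algebra B B₂]
    (h : IsPerf p B) (h₁ : IsPerf p B₁) (h₂ : IsPerf p B₂) : IsPerf p (B₁ ⊗[B] B₂) := by
  have := h.perfectRing
  have := h₁.perfectRing
  have := h₂.perfectRing
  have h3 := perfectRing_tensor p B B₁ B₂ h.cast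
  exact ⟨by rw [← map_natCast (algebraMap B (B₁ ⊗[B] B₂)), h.cast, map_zero], h3.bijective_frobenius⟩

section Prim

theorem dist_of_subsingleton [Subsingleton B] (ξ : WittVector p B) : IsDist ξ :=
  ⟨1, isUnit_one, Subsingleton.elim _ _⟩

theorem p_dvd_iff (hB : IsPerf p B) (x : WittVector p B) : (p : WittVector p B) ∣ x ↔ x.coeff 0 = 0 := by
  rcases hB.elim with _ | ⟨_, _⟩
  · exact ⟨fun _ => Subsingleton.elim _ _, fun _ => ⟨0, Subsingleton.elim _ _⟩⟩
  · exact Prim.p_dvd_iff x

theorem exists_eq_add (hB : IsPerf p B) (x : WittVector p B) :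
    ∃ y : WittVector p B, x = teichmuller p (x.coeff 0) + p * y := by
  rcases hB.elim with _ | ⟨_, _⟩
  · exact ⟨0, Subsingleton.elim _ _⟩
  · exact Prim.exists_eq_add x

theorem eq_of_p_mul (hB : IsPerf p B) {x y : WittVector p B} (h : p * x = p * y) : x = y := by
  rcases hB.elim with _ | ⟨_, _⟩
  · exact Subsingleton.elim _ _
  · exact Prim.eq_of_p_mul h

theorem eq_of_p_pow_mul (hB : IsPerf p B) (n : ℕ) {x y : WittVector p B}
    (h : (p : WittVector p B) ^ n * x = (p : WittVector p B) ^ n * y) : x = y := by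
  rcases hB.elim with _ | ⟨_, _⟩
  · exact Subsingleton.elim _ _
  · exact Prim.eq_of_p_pow_mul n h

theorem isUnit_iff (hB : IsPerf p B) (x : WittVector p B) : IsUnit x ↔ IsUnit (x.coeff 0) := by
  rcases hB.elim with _ | ⟨_, _⟩
  · exact ⟨fun _ => isUnit_of_subsingleton _, fun _ => isUnit_of_subsingleton _⟩
  · exact Prim.isUnit_iff x

theorem coeff_zero_p_mul (hB : IsPerf p B) (x : WittVector p B) :
    ((p : WittVector p B) * x).coeff 0 = 0 := by
  rcases hB.elim with _ | ⟨_, _⟩
  · exact Subsingleton.elim _ _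
  · exact Prim.coeff_zero_p_mul x

theorem isDist_iff (hB : IsPerf p B) (ξ : WittVector p B) : IsDist ξ ↔ IsUnit (ξ.coeff 1) := by
  rcases hB.elim with _ | ⟨_, _⟩
  · exact ⟨fun _ => isUnit_of_subsingleton _, fun _ => dist_of_subsingleton ξ⟩
  · exact Prim.isDist_iff ξ

theorem isDist_teichmuller_add (hB : IsPerf p B) (a : B) {η : WittVector p B} (hη : IsUnit η) :
    IsDist (teichmuller p a + (p : WittVector p B) * η) := by
  rcases hB.elim with _ | ⟨_, _⟩
  · exact dist_of_subsingleton _
  · exact Prim.isDist_teichmuller_add a hη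

variable {ξ : WittVector p B}

theorem dvd_of_dvd_mul (hB : IsPerf p B) (h : IsDist ξ) (n : ℕ) (y : WittVector p B)
    (hy : (p : WittVector p B) ^ (n + 1) ∣ ξ * y) : (p : WittVector p B) ^ n ∣ y := by
  rcases hB.elim with _ | ⟨_, _⟩
  · exact ⟨0, Subsingleton.elim _ _⟩
  · exact Prim.dvd_of_dvd_mul h n y hy

theorem p_mul_eq_zero (hB : IsPerf p B) (h : IsDist ξ) (n : ℕ) (x : WittVector p B ⧸ span {ξ})
    (hx : (p : WittVector p B ⧸ span {ξ}) ^ n * x = 0) : (p : WittVector p B ⧸ span {ξ}) * x = 0 := by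
  rcases hB.elim with _ | ⟨_, _⟩
  · have := subsingleton_quot (span {ξ})
    exact Subsingleton.elim _ _
  · exact Prim.p_mul_eq_zero h n x hx

theorem eq_zero_of_p_mul (hB : IsPerf p B) (h0 : ξ.coeff 0 ∈ nonZeroDivisors B)
    (x : WittVector p B ⧸ span {ξ}) (hx : (p : WittVector p B ⧸ span {ξ}) * x = 0) : x = 0 := by
  rcases hB.elim with _ | ⟨_, _⟩
  · have := subsingleton_quot (span {ξ})
    exact Subsingleton.elim _ _
  · exact Prim.eq_zero_of_p_mul h0 x hx

theorem isAdicComplete_of_subsingleton {R : Type u} [CommRing R] [Subsingleton R] (I : Ideal R) :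
    IsAdicComplete I R :=
  { haus' := fun x _ => Subsingleton.elim _ _
    prec' := fun f _ => ⟨0, fun n => by rw [Subsingleton.elim (f n) 0]⟩ }

theorem isAdicComplete (hB : IsPerf p B) (h : IsDist ξ) :
    IsAdicComplete (span {(p : WittVector p B ⧸ span {ξ})}) (WittVector p B ⧸ span {ξ}) := by
  rcases hB.elim with _ | ⟨_, _⟩
  · have := subsingleton_quot (span {ξ})
    exact isAdicComplete_of_subsingleton _
  · exact Prim.isAdicComplete h

/-- `(W(B)/ξ, p)` is a henselian pair -/
theorem henselianRing (hB : IsPerf p B) (h : IsDist ξ) :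
    HenselianRing (WittVector p B ⧸ span {ξ}) (span {(p : WittVector p B ⧸ span {ξ})}) := by
  have := isAdicComplete hB h
  infer_instance

theorem red_surjective : Function.Surjective (red ξ) := by
  intro b
  obtain ⟨b, rfl⟩ := Ideal.Quotient.mk_surjective b
  exact ⟨Ideal.Quotient.mk _ (teichmuller p b), by rw [red_mk, teichmuller_coeff_zero]⟩

theorem ker_red (hB : IsPerf p B) : RingHom.ker (red ξ) = span {(p : WittVector p B ⧸ span {ξ})} := by
  rcases hB.elim with _ | ⟨_, _⟩
  · have := subsingleton_quot (span {ξ})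
    exact Subsingleton.elim _ _
  · exact Prim.ker_red

/-- `(W(B)/ξ)/p ≃ B/ξ₀` -/
noncomputable def quotEquiv (hB : IsPerf p B) (ξ : WittVector p B) :
    ((WittVector p B ⧸ span {ξ}) ⧸ span {(p : WittVector p B ⧸ span {ξ})}) ≃+* B ⧸ span {ξ.coeff 0} :=
  (Ideal.quotEquivOfEq (ker_red (ξ := ξ) hB).symm).trans
    (RingHom.quotientKerEquivOfSurjective red_surjective)

theorem quotEquiv_mk (hB : IsPerf p B) (x : WittVector p B ⧸ span {ξ}) :
    quotEquiv hB ξ (Ideal.Quotient.mk _ x) = red ξ x := rfl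

theorem IsDist.map {B' : Type v} [CommRing B'] (hB : IsPerf p B) (hB' : IsPerf p B') (h : IsDist ξ)
    (f : B →+* B') : IsDist (WittVector.map f ξ) := by
  rw [isDist_iff hB] at h
  rw [isDist_iff hB', map_coeff]
  exact h.map f

end Prim

section Lift

variable {T : Type u} [CommRing T] {O : Type v} [CommRing O]

theorem subsingleton_of_map {R : Type u} {S : Type v} [CommRing R] [CommRing S] [Subsingleton R]
    (f : R →+* S) : Subsingleton S :=
  subsingleton_of_zero_eq_one (by rw [← map_one f, ← map_zero f, Subsingleton.elim (1 : R) 0])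

theorem lift_unique (hT : IsPerf p T) (hO : IsNilpotent (p : O)) (φ ψ : WittVector p T →+* O)
    (h : ∀ x, Ideal.Quotient.mk (span {(p : O)}) (φ x) = Ideal.Quotient.mk (span {(p : O)}) (ψ x)) :
    φ = ψ := by
  rcases hT.elim with _ | ⟨_, _⟩
  · have := subsingleton_of_map φ
    exact RingHom.ext fun x => Subsingleton.elim _ _
  · exact Lift.lift_unique hO φ ψ h

theorem exists_lift (hT : IsPerf p T) (hO : IsNilpotent (p : O)) (g : T →+* O ⧸ span {(p : O)}) :
    ∃ φ : WittVector p T →+* O, ∀ x, Ideal.Quotient.mk (span {(p : O)}) (φ x) = g (x.coeff 0) := by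
  rcases hT.elim with _ | ⟨_, _⟩
  · have h1 := subsingleton_of_map g
    rw [Ideal.Quotient.subsingleton_iff, Ideal.span_singleton_eq_top] at h1
    obtain ⟨n, hn⟩ := hO
    have h2 : IsUnit ((p : O) ^ n) := h1.pow n
    rw [hn] at h2
    have h3 : Subsingleton O := subsingleton_of_zero_eq_one (isUnit_zero_iff.1 h2)
    let φ : WittVector p T →+* O :=
      { toFun := fun _ => 0
        map_one' := Subsingleton.elim _ _
        map_mul' := fun _ _ => Subsingleton.elim _ _
        map_zero' := rfl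
        map_add' := fun _ _ => Subsingleton.elim _ _ }
    exact ⟨φ, fun x => Subsingleton.elim _ _⟩
  · exact Lift.exists_lift hO g

theorem exists_bar (hT : IsPerf p T) (φ : WittVector p T →+* O) :
    ∃ g : T →+* O ⧸ span {(p : O)}, ∀ x, g (x.coeff 0) = Ideal.Quotient.mk _ (φ x) := by
  rcases hT.elim with _ | ⟨_, _⟩
  · have := subsingleton_of_map φ
    let g : T →+* O ⧸ span {(p : O)} :=
      { toFun := fun _ => 0
        map_one' := Subsingleton.elim _ _
        map_mul' := fun _ _ => Subsingleton.elim _ _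
        map_zero' := rfl
        map_add' := fun _ _ => Subsingleton.elim _ _ }
    exact ⟨g, fun x => Subsingleton.elim _ _⟩
  · exact ⟨bar φ, bar_coeff φ⟩

theorem bar_unique {g g' : T →+* O} (h : ∀ x : WittVector p T, g (x.coeff 0) = g' (x.coeff 0)) : g = g' := by
  refine RingHom.ext fun t => ?_
  have := h (teichmuller p t)
  rwa [teichmuller_coeff_zero] at this

end Lift

end K148.Perf
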