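import Mathlib.RingTheory.Valuation.ValuationRing
import Mathlib.RingTheory.AdicCompletion.Basic
import Mathlib.Algebra.Polynomial.Taylor
import Mathlib.Algebra.Polynomial.Lifts
import Groth.Agent.Flat2E.AIC1

/-!
# Roots of polynomials over complete valuation rings

`K148.AicLift.exists_isRoot`: a polynomial over an absolutely integrally closed valuation domain having a
unit coefficient in positive degree has a root.
`K148.AicLift.exists_isRoot_of_complete`: the same for a `ϖ`-adically complete valuation domain in which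
every element is, up to a unit, a `j`-th power for every `j ≥ 1`, and in which every such polynomial has a
root modulo `ϖ`.
-/

set_option autoImplicit false

universe u v

open Polynomial IsLocalRing Groth.Agent.Flat2E.AIC1

namespace K148.AicLift

/-- a unit coefficient in positive degree -/
def HasUnitCoeff {A : Type u} [CommRing A] (P : A[X]) : Prop := ∃ j, 0 < j ∧ IsUnit (P.coeff j)

theorem _root_.Polynomial.Monic.k148_hasUnitCoeff {A : Type u} [CommRing A] {P : A[X]} (hP : P.Monic)
    (hd : P.natDegree ≠ 0) : HasUnitCoeff P :=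
  ⟨P.natDegree, Nat.pos_of_ne_zero hd, by rw [hP.coeff_natDegree]; exact isUnit_one⟩

theorem HasUnitCoeff.map {A : Type u} {B : Type v} [CommRing A] [CommRing B] {P : A[X]}
    (h : HasUnitCoeff P) (f : A →+* B) : HasUnitCoeff (P.map f) := by
  obtain ⟨j, hj, h⟩ := h
  exact ⟨j, hj, by rw [coeff_map]; exact h.map f⟩

theorem hasUnitCoeff_of_map {A : Type u} {B : Type v} [CommRing A] [CommRing B] {P : A[X]}
    (f : A →+* B) [IsLocalHom f] (h : HasUnitCoeff (P.map f)) : HasUnitCoeff P := by
  obtain ⟨j, hj, h⟩ := h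
  rw [coeff_map] at h
  exact ⟨j, hj, isUnit_of_map_unit f _ h⟩

section Aic

variable {A : Type u} [CommRing A] [IsDomain A] [ValuationRing A]

theorem exists_prod {K : Type v} [Field K] [Algebra A K] [IsFractionRing A K] (s : Multiset K)
    (hs : ∀ r ∈ s, r ∉ (algebraMap A K).range) :
    ∃ Q : A[X], Q.map (algebraMap A K) = (s.map fun r => 1 - C r⁻¹ * X).prod ∧
      Q.map (residue A) = 1 := by
  induction s using Multiset.induction_on with
  | empty => exact ⟨1, by simp, by simp⟩
  | cons r s ih =>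
    obtain ⟨Q, hQ, hQ1⟩ := ih fun x hx => hs x (Multiset.mem_cons_of_mem hx)
    have hr := hs r (Multiset.mem_cons_self r s)
    obtain ⟨t, ht⟩ : r⁻¹ ∈ (algebraMap A K).range := by
      rcases ValuationRing.isInteger_or_isInteger A r with h | h
      · exact absurd h hr
      · exact h
    have htm : t ∈ maximalIdeal A := by
      rw [mem_maximalIdeal, mem_nonunits_iff]
      intro hu
      refine hr ⟨hu.unit⁻¹.1, ?_⟩
      have h1 : algebraMap A K (hu.unit⁻¹.1) * algebraMap A K t = 1 := by
        rw [← map_mul, IsUnit.val_inv_mul, map_one]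
      rw [ht] at h1
      have hr0 : r ≠ 0 := by
        rintro rfl
        simp at h1
      field_simp at h1
      exact h1
    refine ⟨(1 - C t * X) * Q, ?_, ?_⟩
    · rw [Polynomial.map_mul, hQ, Multiset.map_cons, Multiset.prod_cons]
      simp [ht]
    · rw [Polynomial.map_mul, hQ1, mul_one]
      simp [(residue_eq_zero_iff t).2 htm]

/-- over an absolutely integrally closed valuation domain every polynomial with a unit coefficient in
positive degree has a root -/
theorem exists_isRoot (h : IsAIC A) (P : A[X]) (hP : HasUnitCoeff P) : ∃ x, P.IsRoot x := by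
  classical
  let K := FractionRing A
  have hK : IsAlgClosed K := h.isAlgClosed (nonZeroDivisors A)
  have hinj : Function.Injective (algebraMap A K) := IsFractionRing.injective A K
  by_contra hcon
  push Not at hcon
  have hroots : ∀ r ∈ (P.map (algebraMap A K)).roots, r ∉ (algebraMap A K).range := by
    rintro r hr ⟨a, rfl⟩
    have h1 := (mem_roots'.1 hr).2
    refine hcon a ?_
    rw [IsRoot.def, eval_map_algebraMap, aeval_algebraMap_apply] at h1
    rw [IsRoot.def]
    exact hinj (by rw [map_zero]; simpa using h1)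
  obtain ⟨Q, hQ, hQ1⟩ := exists_prod _ hroots
  have hne : ∀ r ∈ (P.map (algebraMap A K)).roots, r ≠ 0 := by
    rintro r hr rfl
    exact hroots 0 hr ⟨0, map_zero _⟩
  have hsplit := (IsAlgClosed.splits (P.map (algebraMap A K))).eq_prod_roots
  have hprod : ((P.map (algebraMap A K)).roots.map fun a => X - C a).prod =
      C ((P.map (algebraMap A K)).roots.map fun a => -a).prod *
        ((P.map (algebraMap A K)).roots.map fun r => 1 - C r⁻¹ * X).prod := by
    rw [map_multiset_prod, Multiset.map_map, ← Multiset.prod_map_mul]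
    refine congrArg Multiset.prod (Multiset.map_congr rfl fun r hr => ?_)
    have h0 := hne r hr
    have : C (-r) * (1 - C r⁻¹ * X) = X * C (r * r⁻¹) - C r := by
      simp only [C_neg, C_mul]
      ring
    rw [Function.comp_apply, this, mul_inv_cancel₀ h0]
    simp
  rw [hprod, ← mul_assoc, ← map_mul, ← hQ] at hsplit
  set e := (P.map (algebraMap A K)).leadingCoeff *
    ((P.map (algebraMap A K)).roots.map fun a => -a).prod with he
  have hQ0 : IsUnit (Q.coeff 0) := by
    have h1 : residue A (Q.coeff 0) = 1 := by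
      rw [← coeff_map, hQ1, coeff_one_zero]
    exact (isUnit_map_iff (residue A) _).1 (by rw [h1]; exact isUnit_one)
  have hQj : ∀ j, 0 < j → Q.coeff j ∈ maximalIdeal A := by
    intro j hj
    rw [← residue_eq_zero_iff, ← coeff_map, hQ1, coeff_one, if_neg hj.ne']
  have hcoef : ∀ j, algebraMap A K (P.coeff j) = e * algebraMap A K (Q.coeff j) := by
    intro j
    rw [← coeff_map, hsplit, coeff_C_mul, coeff_map]
  obtain ⟨j, hj, hu⟩ := hP
  have h2 : P.coeff j * Q.coeff 0 = P.coeff 0 * Q.coeff j := by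
    apply hinj
    rw [map_mul, map_mul, hcoef j, hcoef 0]
    ring
  have h3 : P.coeff j * Q.coeff 0 ∈ maximalIdeal A := by
    rw [h2]
    exact Ideal.mul_mem_left _ _ (hQj j hj)
  exact (mem_maximalIdeal _).1 h3 (hu.mul hQ0)

end Aic

section Complete

variable {A : Type u} [CommRing A] [IsDomain A] [ValuationRing A] (ϖ : A)

/-- one Newton step: `R` has constant term `r₀ ≠ 0` divisible by `ϖ` and a unit coefficient in positive
degree; then `R(cT) = r₀ S(T)` where `S` has a unit coefficient in positive degree and `ϖ ∣ c ^ natDegree`. -/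
theorem exists_step
    (hdiv : ∀ (r : A) (j : ℕ), 0 < j → ∃ c, Associated (c ^ j) r)
    (R : A[X]) (hR : HasUnitCoeff R) (h0 : R.coeff 0 ≠ 0) (hd : ϖ ∣ R.coeff 0) (D : ℕ)
    (hD : R.natDegree ≤ D) :
    ∃ (c : A) (S : A[X]), R.comp (C c * X) = C (R.coeff 0) * S ∧ HasUnitCoeff S ∧ ϖ ∣ c ^ D ∧
      S.natDegree ≤ D := by
  classical
  obtain ⟨m, hm, hum⟩ := hR
  -- the candidates
  let J : Finset ℕ := (Finset.range (D + 1)).filter fun j => 0 < j ∧ R.coeff j ∣ R.coeff 0
  have hmD : m ≤ D := by
    refine (le_natDegree_of_ne_zero ?_).trans hD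
    exact hum.ne_zero
  have hmJ : m ∈ J := by
    simp only [J, Finset.mem_filter, Finset.mem_range]
    exact ⟨by omega, hm, hum.dvd⟩
  have hch : ∀ j : ℕ, ∃ c : A, j ∈ J → Associated (R.coeff j * c ^ j) (R.coeff 0) := by
    intro j
    by_cases hj : j ∈ J
    · have hj' := hj
      simp only [J, Finset.mem_filter, Finset.mem_range] at hj'
      obtain ⟨q, hq⟩ := hj'.2.2
      obtain ⟨c, hc⟩ := hdiv q j hj'.2.1
      exact ⟨c, fun _ => by rw [hq]; exact Associated.mul_left _ hc⟩
    · exact ⟨0, fun h => absurd h hj⟩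
  choose c hc using hch
  -- the one divisible by all the others
  obtain ⟨j₀, hj₀, hmax⟩ : ∃ j₀ ∈ J, ∀ j ∈ J, c j ∣ c j₀ := by
    have key : ∀ s : Finset ℕ, s.Nonempty → ∃ j₀ ∈ s, ∀ j ∈ s, c j ∣ c j₀ := by
      intro s hs
      induction hs using Finset.Nonempty.cons_induction with
      | singleton a => exact ⟨a, by simp, by simp⟩
      | cons a s ha hs ih =>
        obtain ⟨b, hb, hb'⟩ := ih
        rcases ValuationRing.dvd_total (c a) (c b) with h | h
        · refine ⟨b, Finset.mem_cons_of_mem hb, fun j hj => ?_⟩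
          rcases Finset.mem_cons.1 hj with rfl | hj
          · exact h
          · exact hb' j hj
        · refine ⟨a, Finset.mem_cons_self a s, fun j hj => ?_⟩
          rcases Finset.mem_cons.1 hj with rfl | hj
          · exact dvd_rfl
          · exact (hb' j hj).trans h
    exact key J ⟨m, hmJ⟩
  set γ := c j₀ with hγ
  have hall : ∀ j, 0 < j → R.coeff 0 ∣ R.coeff j * γ ^ j := by
    intro j hj
    by_cases hjJ : j ∈ J
    · exact ((hc j hjJ).symm.dvd).trans (mul_dvd_mul_left _ (pow_dvd_pow_of_dvd (hmax j hjJ) j))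
    · rcases ValuationRing.dvd_total (R.coeff j) (R.coeff 0) with h | h
      · by_cases hjD : j ≤ D
        · exact absurd (by simp only [J, Finset.mem_filter, Finset.mem_range]; exact ⟨by omega, hj, h⟩) hjJ
        · have h1 : R.coeff j = 0 := coeff_eq_zero_of_natDegree_lt (by omega)
          rw [h1, zero_mul]
          exact dvd_zero _
      · exact h.mul_right _
  choose q hq using hall
  have hcoe : ∀ j, (R.comp (C γ * X)).coeff j = R.coeff j * γ ^ j := by
    intro j
    rw [comp_C_mul_X_coeff]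
  obtain ⟨S, hS⟩ : C (R.coeff 0) ∣ R.comp (C γ * X) := by
    rw [C_dvd_iff_dvd_coeff]
    intro j
    rw [hcoe]
    rcases Nat.eq_zero_or_pos j with rfl | hj
    · simp
    · exact ⟨q j hj, hq j hj⟩
  refine ⟨γ, S, hS, ?_, ?_, ?_⟩
  · have hj₀' := hj₀
    simp only [J, Finset.mem_filter, Finset.mem_range] at hj₀'
    refine ⟨j₀, hj₀'.2.1, ?_⟩
    have h1 := hcoe j₀
    rw [hS, coeff_C_mul] at h1
    obtain ⟨u, hu⟩ := hc j₀ hj₀
    rw [← hγ, ← h1, mul_assoc] at hu
    have h2 : S.coeff j₀ * ↑u = 1 := by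
      apply mul_left_cancel₀ h0
      rw [hu, mul_one]
    exact IsUnit.of_mul_eq_one _ h2
  · have h1 : R.coeff 0 ∣ c m ^ m := by
      obtain ⟨u, hu⟩ := hc m hmJ
      refine ⟨hum.unit⁻¹.1 * (↑u⁻¹ : A), ?_⟩
      have h2 : R.coeff m * c m ^ m = R.coeff 0 * (↑u⁻¹ : A) := by
        rw [← hu]; simp [mul_assoc]
      calc c m ^ m = hum.unit⁻¹.1 * (R.coeff m * c m ^ m) := by
            rw [← mul_assoc, IsUnit.val_inv_mul, one_mul]
        _ = _ := by rw [h2]; ring
    exact ((hd.trans h1).trans (pow_dvd_pow_of_dvd (hmax m hmJ) m)).trans (pow_dvd_pow γ hmD)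
  · have h1 : (C (R.coeff 0) * S).natDegree = S.natDegree := natDegree_C_mul h0
    rw [← h1, ← hS]
    refine natDegree_comp_le.trans ?_
    calc R.natDegree * (C γ * X).natDegree ≤ R.natDegree * 1 :=
          Nat.mul_le_mul_left _ ((natDegree_C_mul_le _ _).trans natDegree_X_le)
      _ ≤ D := by rw [mul_one]; exact hD

theorem hasUnitCoeff_iff (P : A[X]) : HasUnitCoeff P ↔ 0 < (P.map (residue A)).natDegree := by
  constructor
  · rintro ⟨j, hj, hu⟩
    refine hj.trans_le (le_natDegree_of_ne_zero ?_)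
    rw [coeff_map]
    exact (hu.map (residue A)).ne_zero
  · intro h
    refine ⟨_, h, (isUnit_map_iff (residue A) _).1 ?_⟩
    rw [← coeff_map]
    exact (leadingCoeff_ne_zero.2 (ne_zero_of_natDegree_gt h)).isUnit

theorem HasUnitCoeff.taylor {P : A[X]} (h : HasUnitCoeff P) (t : A) : HasUnitCoeff (P.comp (X + C t)) := by
  rw [hasUnitCoeff_iff] at h ⊢
  have h1 : (P.comp (X + C t)).map (residue A) = Polynomial.taylor (residue A t) (P.map (residue A)) := by
    rw [taylor_apply, Polynomial.map_comp]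
    simp
  rwa [h1, natDegree_taylor]

theorem dvd_of_pow_dvd_pow {a b : A} {D : ℕ} (hD : 0 < D) (h : a ^ D ∣ b ^ D) : a ∣ b := by
  rcases ValuationRing.dvd_total a b with h1 | ⟨w, rfl⟩
  · exact h1
  · by_cases hb : b = 0
    · rw [hb]; exact dvd_zero _
    obtain ⟨v, hv⟩ := h
    have h2 : w ^ D * v = 1 := by
      apply mul_left_cancel₀ (pow_ne_zero D hb)
      rw [mul_one]
      conv_rhs => rw [hv]
      ring
    have h3 : IsUnit w := (isUnit_pow_iff hD.ne').1 (IsUnit.of_mul_eq_one _ h2)
    exact (associated_mul_unit_left b w h3).dvd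

/-- **Successive approximation**: `A` a `ϖ`-adically complete valuation domain in which every element is up
to a unit a `j`-th power for all `j ≥ 1`, and such that every polynomial with a unit coefficient in positive
degree has a root modulo `ϖ`.  Then every such polynomial has a root. -/
theorem exists_isRoot_of_complete [IsAdicComplete (Ideal.span {ϖ}) A]
    (hdiv : ∀ (r : A) (j : ℕ), 0 < j → ∃ c, Associated (c ^ j) r)
    (happ : ∀ P : A[X], HasUnitCoeff P → ∃ t, ϖ ∣ P.eval t) (P : A[X]) (hP : HasUnitCoeff P) :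
    ∃ x, P.IsRoot x := by
  classical
  by_contra hcon
  push Not at hcon
  set D := P.natDegree with hD
  have hDpos : 0 < D := by
    obtain ⟨j, hj, hu⟩ := hP
    exact hj.trans_le (le_natDegree_of_ne_zero hu.ne_zero)
  let Good : A × A × A × A[X] → Prop := fun s =>
    P.comp (C s.1 + C s.2.1 * X) = C s.2.2.1 * s.2.2.2 ∧ HasUnitCoeff s.2.2.2 ∧ s.2.2.2.natDegree ≤ D
  have hstep : ∀ s : A × A × A × A[X], Good s → ∃ s' : A × A × A × A[X], Good s' ∧
      s.2.1 ∣ s'.1 - s.1 ∧ (∃ c', s'.2.1 = s.2.1 * c' ∧ ϖ ∣ c' ^ D) ∧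
      (∃ e', s'.2.2.1 = s.2.2.1 * e' ∧ ϖ ∣ e') := by
    rintro ⟨z, c, e, S⟩ ⟨h1, h2, h3⟩
    simp only at h1 h2 h3
    obtain ⟨t, ht⟩ := happ S h2
    have hR0 : (S.comp (X + C t)).coeff 0 = S.eval t := by
      rw [coeff_zero_eq_eval_zero, eval_comp]
      simp
    have hne : (S.comp (X + C t)).coeff 0 ≠ 0 := by
      rw [hR0]
      intro h0
      refine hcon (z + c * t) ?_
      rw [IsRoot.def]
      have h4 := congrArg (eval t) h1
      rw [eval_comp, eval_mul, h0, mul_zero] at h4
      simpa using h4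
    obtain ⟨c', S', h5, h6, h7, h8⟩ := exists_step ϖ hdiv (S.comp (X + C t)) (h2.taylor t) hne
      (by rw [hR0]; exact ht) D (by
        refine le_trans ?_ h3
        rw [← taylor_apply, natDegree_taylor])
    refine ⟨⟨z + c * t, c * c', e * (S.comp (X + C t)).coeff 0, S'⟩, ⟨?_, h6, h8⟩, ?_, ?_, ?_⟩
    · have h9 : P.comp (C (z + c * t) + C (c * c') * X) =
          (P.comp (C z + C c * X)).comp (C t + C c' * X) := by
        rw [comp_assoc]
        congr 1
        simp only [add_comp, mul_comp, C_comp, X_comp, map_add, map_mul]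
        ring
      simp only
      rw [h9, h1, mul_comp, C_comp, map_mul, mul_assoc, ← h5, comp_assoc]
      congr 2
      simp only [add_comp, X_comp, C_comp]
      ring
    · exact ⟨t, by simp⟩
    · exact ⟨c', rfl, h7⟩
    · exact ⟨_, rfl, by rw [hR0]; exact ht⟩
  have h0 : Good ⟨0, 1, 1, P⟩ := by
    refine ⟨?_, hP, le_rfl⟩
    simp
  let T := {s : A × A × A × A[X] // Good s}
  let nx : T → T := fun s => ⟨(hstep s.1 s.2).choose, (hstep s.1 s.2).choose_spec.1⟩
  let st : ℕ → T := fun n => Nat.rec ⟨_, h0⟩ (fun _ s => nx s) n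
  have hst : ∀ n, st (n + 1) = nx (st n) := fun n => rfl
  let z : ℕ → A := fun n => (st n).1.1
  let c : ℕ → A := fun n => (st n).1.2.1
  let e : ℕ → A := fun n => (st n).1.2.2.1
  have hz : ∀ n, c n ∣ z (n + 1) - z n := fun n => (hstep (st n).1 (st n).2).choose_spec.2.1
  have hc : ∀ n, ∃ c', c (n + 1) = c n * c' ∧ ϖ ∣ c' ^ D := fun n =>
    (hstep (st n).1 (st n).2).choose_spec.2.2.1
  have he : ∀ n, ∃ e', e (n + 1) = e n * e' ∧ ϖ ∣ e' := fun n =>
    (hstep (st n).1 (st n).2).choose_spec.2.2.2
  have hcD : ∀ n, ϖ ^ n ∣ c n ^ D := by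
    intro n
    induction n with
    | zero => simp
    | succ n ih =>
      obtain ⟨c', h1, h2⟩ := hc n
      rw [h1, mul_pow, pow_succ]
      exact mul_dvd_mul ih h2
  have heD : ∀ n, ϖ ^ n ∣ e n := by
    intro n
    induction n with
    | zero => simp
    | succ n ih =>
      obtain ⟨c', h1, h2⟩ := he n
      rw [h1, pow_succ]
      exact mul_dvd_mul ih h2
  have hcm : ∀ m n, m ≤ n → c m ∣ c n := by
    intro m n hmn
    induction n, hmn using Nat.le_induction with
    | base => exact dvd_rfl
    | succ n _ ih =>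
      obtain ⟨c', h1, -⟩ := hc n
      rw [h1]
      exact ih.mul_right _
  have hzm : ∀ m n, m ≤ n → c m ∣ z n - z m := by
    intro m n hmn
    induction n, hmn using Nat.le_induction with
    | base => simp
    | succ n hn ih =>
      have : z (n + 1) - z m = (z (n + 1) - z n) + (z n - z m) := by ring
      rw [this]
      exact dvd_add ((hcm m n hn).trans (hz n)) ih
  have hk : ∀ k, ϖ ^ k ∣ c (k * D) := by
    intro k
    refine dvd_of_pow_dvd_pow hDpos ?_
    rw [← pow_mul]
    exact hcD (k * D)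
  have hmem : ∀ (k : ℕ) (x : A), x ∈ (Ideal.span {ϖ} ^ k • ⊤ : Submodule A A) ↔ ϖ ^ k ∣ x := by
    intro k x
    rw [smul_eq_mul, Ideal.mul_top, Ideal.span_singleton_pow, Ideal.mem_span_singleton]
  obtain ⟨L, hL⟩ := IsPrecomplete.prec (IsAdicComplete.toIsPrecomplete (I := Ideal.span {ϖ}) (M := A))
    (f := fun k => z (k * D)) (by
      intro m n hmn
      rw [SModEq.comm, SModEq.sub_mem, hmem]
      exact (hk m).trans (hzm _ _ (Nat.mul_le_mul_right _ hmn)))
  refine hcon L ?_
  rw [IsRoot.def]
  refine IsHausdorff.haus (IsAdicComplete.toIsHausdorff (I := Ideal.span {ϖ}) (M := A)) _ fun k => ?_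
  rw [SModEq.zero, hmem]
  have h1 : ϖ ^ k ∣ z (k * D) - L := by
    have := hL k
    rwa [SModEq.sub_mem, hmem] at this
  have h2 : ϖ ^ k ∣ P.eval (z (k * D)) - P.eval L := h1.trans (sub_dvd_eval_sub _ _ P)
  have h3 : ϖ ^ k ∣ P.eval (z (k * D)) := by
    have h4 : P.eval (z (k * D)) = e (k * D) * (st (k * D)).1.2.2.2.eval 0 := by
      have := congrArg (eval 0) (st (k * D)).2.1
      rw [eval_comp, eval_mul] at this
      simpa using this
    rw [h4]
    refine Dvd.dvd.mul_right ?_ _
    refine (pow_dvd_pow ϖ ?_).trans (heD (k * D))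
    exact Nat.le_mul_of_pos_right _ hDpos
  have h5 := dvd_sub h3 h2
  simpa using h5

end Complete

end K148.AicLift
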