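import Groth.Agent.EtDual.K148.Perf
import Groth.Agent.EtDual.K617.TauDesc

/-!
# `B ↦ W(B)/ξ` commutes with pushouts modulo all powers of `p`

`exists_push`: the comparison map `W(X)/ξ ⊗_{W(B)/ξ} W(Y)/ξ → W(X ⊗_B Y)/ξ` is an isomorphism modulo all powers of
`p`, in the form of hypothesis `hF` of `K617.TauDesc.ud_pullback`.
-/

set_option autoImplicit false

universe u v w

open WittVector Ideal CategoryTheory CategoryTheory.Limits

namespace K148.SharpPush

open K148.Prim K148.Perf K617.TauDesc

variable {p : ℕ} [hp : Fact p.Prime]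

variable {B X Y P : Type u} [CommRing B] [CommRing X] [CommRing Y] [CommRing P] {f : B →+* X} {g : B →+* Y}
  {a : X →+* P} {b : Y →+* P}

/-- existence in the pushout property of `W(P)` -/
theorem exists_desc (hX : IsPerf p X) (hY : IsPerf p Y) (hP : IsPerf p P)
    (h : IsPushout (CommRingCat.ofHom f) (CommRingCat.ofHom g) (CommRingCat.ofHom a) (CommRingCat.ofHom b))
    {O : Type u} [CommRing O] (hO : IsNilpotent (p : O))
    (x : WittVector p X →+* O) (y : WittVector p Y →+* O)
    (hxy : x.comp (WittVector.map f) = y.comp (WittVector.map g)) :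
    ∃ φ : WittVector p P →+* O, φ.comp (WittVector.map a) = x ∧ φ.comp (WittVector.map b) = y := by
  obtain ⟨x', hx'⟩ := exists_bar hX x
  obtain ⟨y', hy'⟩ := exists_bar hY y
  have hw : CommRingCat.ofHom f ≫ CommRingCat.ofHom x' = CommRingCat.ofHom g ≫ CommRingCat.ofHom y' := by
    have h1 : x'.comp f = y'.comp g := by
      refine bar_unique (p := p) fun t => ?_
      rw [RingHom.comp_apply, RingHom.comp_apply, ← map_coeff f t 0, ← map_coeff g t 0, hx', hy']
      exact congrArg _ (RingHom.congr_fun hxy t)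
    exact congrArg CommRingCat.ofHom h1
  let t := h.desc _ _ hw
  have ht₁ : ∀ z, t.hom (a z) = x' z := fun z => ConcreteCategory.congr_hom (h.inl_desc _ _ hw) z
  have ht₂ : ∀ z, t.hom (b z) = y' z := fun z => ConcreteCategory.congr_hom (h.inr_desc _ _ hw) z
  obtain ⟨φ, hφ⟩ := exists_lift hP hO t.hom
  refine ⟨φ, ?_, ?_⟩
  · refine lift_unique hX hO _ _ fun x => ?_
    rw [RingHom.comp_apply, hφ, map_coeff, ← hx' x, ht₁]
  · refine lift_unique hY hO _ _ fun x => ?_
    rw [RingHom.comp_apply, hφ, map_coeff, ← hy' x, ht₂]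

/-- uniqueness in the pushout property of `W(P)` -/
theorem uniq (hP : IsPerf p P)
    (h : IsPushout (CommRingCat.ofHom f) (CommRingCat.ofHom g) (CommRingCat.ofHom a) (CommRingCat.ofHom b))
    {O : Type u} [CommRing O] (hO : IsNilpotent (p : O)) (φ ψ : WittVector p P →+* O)
    (h₁ : φ.comp (WittVector.map a) = ψ.comp (WittVector.map a))
    (h₂ : φ.comp (WittVector.map b) = ψ.comp (WittVector.map b)) : φ = ψ := by
  obtain ⟨φ', hφ'⟩ := exists_bar hP φ
  obtain ⟨ψ', hψ'⟩ := exists_bar hP ψ
  refine lift_unique hP hO φ ψ fun x => ?_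
  rw [← hφ', ← hψ']
  have key : CommRingCat.ofHom φ' = CommRingCat.ofHom ψ' := by
    apply h.hom_ext
    · have h3 : φ'.comp a = ψ'.comp a := by
        refine bar_unique (p := p) fun x => ?_
        rw [RingHom.comp_apply, RingHom.comp_apply, ← map_coeff, hφ', hψ']
        exact congrArg _ (RingHom.congr_fun h₁ x)
      exact congrArg CommRingCat.ofHom h3
    · have h3 : φ'.comp b = ψ'.comp b := by
        refine bar_unique (p := p) fun x => ?_
        rw [RingHom.comp_apply, RingHom.comp_apply, ← map_coeff, hφ', hψ']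
        exact congrArg _ (RingHom.congr_fun h₂ x)
      exact congrArg CommRingCat.ofHom h3
  exact ConcreteCategory.congr_hom key _

/-- The comparison map from any pushout is an isomorphism modulo all powers of `p`. -/
theorem ce_of_isPushout (hX : IsPerf p X) (hY : IsPerf p Y) (hP : IsPerf p P)
    (h : IsPushout (CommRingCat.ofHom f) (CommRingCat.ofHom g) (CommRingCat.ofHom a) (CommRingCat.ofHom b))
    (ξ : WittVector p B) (ξX : WittVector p X) (ξY : WittVector p Y) (ξP : WittVector p P)
    (hξX : ξX = WittVector.map f ξ) (hξP : ξP = WittVector.map a ξX)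
    (F : WittVector p B ⧸ span {ξ} →+* WittVector p X ⧸ span {ξX})
    (hF : ∀ x, F (Ideal.Quotient.mk _ x) = Ideal.Quotient.mk _ (WittVector.map f x))
    (G : WittVector p B ⧸ span {ξ} →+* WittVector p Y ⧸ span {ξY})
    (hG : ∀ x, G (Ideal.Quotient.mk _ x) = Ideal.Quotient.mk _ (WittVector.map g x))
    {Q : CommRingCat.{u}} {i₁ : CommRingCat.of (WittVector p X ⧸ span {ξX}) ⟶ Q}
    {i₂ : CommRingCat.of (WittVector p Y ⧸ span {ξY}) ⟶ Q}
    (hQ : IsPushout (CommRingCat.ofHom F) (CommRingCat.ofHom G) i₁ i₂)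
    (k : Q →+* WittVector p P ⧸ span {ξP})
    (hk₁ : ∀ x, k (i₁.hom (Ideal.Quotient.mk _ x)) = Ideal.Quotient.mk _ (WittVector.map a x))
    (hk₂ : ∀ x, k (i₂.hom (Ideal.Quotient.mk _ x)) = Ideal.Quotient.mk _ (WittVector.map b x)) :
    CE (p : Q) k := by
  subst hξX
  subst hξP
  have main : ∀ r : ℕ, (∀ y, ∃ z, k (p : Q) ^ r ∣ y - k z) ∧ ∀ z, k (p : Q) ^ r ∣ k z → (p : Q) ^ r ∣ z := by
    intro r
    rcases Nat.eq_zero_or_pos r with rfl | hr
    · refine ⟨fun y => ⟨0, ?_⟩, fun z _ => ?_⟩
      · rw [pow_zero]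
        exact one_dvd _
      · rw [pow_zero]
        exact one_dvd z
    set O := Q ⧸ span {(p : Q) ^ r} with hOdef
    let π : Q →+* O := Ideal.Quotient.mk _
    have hO : IsNilpotent (p : O) := by
      refine ⟨r, ?_⟩
      rw [← map_natCast π, ← map_pow]
      exact Ideal.Quotient.eq_zero_iff_mem.2 (Ideal.mem_span_singleton_self _)
    obtain ⟨ψ, hψ₁, hψ₂⟩ := exists_desc hX hY hP h hO
      (π.comp (i₁.hom.comp (Ideal.Quotient.mk (span {WittVector.map f ξ}))))
      (π.comp (i₂.hom.comp (Ideal.Quotient.mk (span {ξY})))) (by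
        refine RingHom.ext fun x => ?_
        simp only [RingHom.comp_apply]
        rw [← hF, ← hG]
        exact congrArg π (ConcreteCategory.congr_hom hQ.w (Ideal.Quotient.mk (span {ξ}) x)))
    have hψξ : ψ (WittVector.map a (WittVector.map f ξ)) = 0 := by
      rw [← RingHom.comp_apply, hψ₁, RingHom.comp_apply, RingHom.comp_apply,
        Ideal.Quotient.eq_zero_iff_mem.2 (Ideal.mem_span_singleton_self (WittVector.map f ξ)), map_zero, map_zero]
    let Ψ : WittVector p P ⧸ span {WittVector.map a (WittVector.map f ξ)} →+* O := Ideal.Quotient.lift _ ψ (by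
      intro x hx
      obtain ⟨y, rfl⟩ := Ideal.mem_span_singleton.1 hx
      rw [map_mul, hψξ, zero_mul])
    have hΨ : ∀ x, Ψ (Ideal.Quotient.mk _ x) = ψ x := fun x => rfl
    have h1 : ∀ z, Ψ (k z) = π z := by
      have h2 : CommRingCat.ofHom (Ψ.comp k) = CommRingCat.ofHom π := by
        apply hQ.hom_ext
        · ext x
          change Ψ (k (i₁.hom (Ideal.Quotient.mk _ x))) = π (i₁.hom (Ideal.Quotient.mk _ x))
          rw [hk₁, hΨ, ← RingHom.comp_apply, hψ₁]
          rfl
        · ext x
          change Ψ (k (i₂.hom (Ideal.Quotient.mk _ x))) = π (i₂.hom (Ideal.Quotient.mk _ x))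
          rw [hk₂, hΨ, ← RingHom.comp_apply, hψ₂]
          rfl
      exact fun z => ConcreteCategory.congr_hom h2 z
    refine ⟨fun y => ?_, fun z hz => ?_⟩
    · -- surjectivity
      obtain ⟨y, rfl⟩ := Ideal.Quotient.mk_surjective y
      obtain ⟨z, hz⟩ := Ideal.Quotient.mk_surjective (Ψ (Ideal.Quotient.mk _ y))
      refine ⟨z, ?_⟩
      have hz' : π z = Ψ (Ideal.Quotient.mk _ y) := hz
      set S := WittVector p P ⧸ span {WittVector.map a (WittVector.map f ξ)}
      let O' := S ⧸ span {(p : S) ^ r}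
      let π' : S →+* O' := Ideal.Quotient.mk _
      have hO' : IsNilpotent (p : O') := by
        refine ⟨r, ?_⟩
        rw [← map_natCast π', ← map_pow]
        exact Ideal.Quotient.eq_zero_iff_mem.2 (Ideal.mem_span_singleton_self _)
      let k' : O →+* O' := Ideal.quotientMap (span {(p : S) ^ r}) k (by
        rw [Ideal.span_singleton_le_iff_mem, Ideal.mem_comap, map_pow, map_natCast]
        exact Ideal.mem_span_singleton_self _)
      have hk' : ∀ c, k' (π c) = π' (k c) := fun c => rfl
      have h2 : k'.comp ψ = π'.comp (Ideal.Quotient.mk _) := by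
        refine uniq hP h hO' _ _ ?_ ?_
        · refine RingHom.ext fun x => ?_
          simp only [RingHom.comp_apply]
          rw [← RingHom.comp_apply ψ, hψ₁, RingHom.comp_apply, hk', RingHom.comp_apply, hk₁]
        · refine RingHom.ext fun x => ?_
          simp only [RingHom.comp_apply]
          rw [← RingHom.comp_apply ψ, hψ₂, RingHom.comp_apply, hk', RingHom.comp_apply, hk₂]
      have h3 : π' (k z) = π' (Ideal.Quotient.mk _ y) := by
        rw [← hk', hz', hΨ, ← RingHom.comp_apply, h2]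
        rfl
      have h4 : π' (Ideal.Quotient.mk _ y - k z) = 0 := by
        rw [map_sub, h3, sub_self]
      rw [map_natCast, ← Ideal.mem_span_singleton]
      exact Ideal.Quotient.eq_zero_iff_mem.1 h4
    · obtain ⟨y, hy⟩ := hz
      have h2 : π z = 0 := by
        rw [← h1, hy, map_mul, map_pow, h1, ← map_pow]
        rw [show π ((p : Q) ^ r) = 0 from Ideal.Quotient.eq_zero_iff_mem.2 (Ideal.mem_span_singleton_self _),
          zero_mul]
      rw [← Ideal.mem_span_singleton]
      exact Ideal.Quotient.eq_zero_iff_mem.1 h2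
  exact ⟨fun n => (main n).1, fun n => (main n).2⟩

/-- The form of hypothesis `hF` of `K617.TauDesc.ud_pullback`. -/
theorem exists_push (hX : IsPerf p X) (hY : IsPerf p Y) (hP : IsPerf p P)
    (h : IsPushout (CommRingCat.ofHom f) (CommRingCat.ofHom g) (CommRingCat.ofHom a) (CommRingCat.ofHom b))
    (ξ : WittVector p B) (ξX : WittVector p X) (ξY : WittVector p Y) (ξP : WittVector p P)
    (hξX : ξX = WittVector.map f ξ) (hξP : ξP = WittVector.map a ξX)
    (F : WittVector p B ⧸ span {ξ} →+* WittVector p X ⧸ span {ξX})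
    (hF : ∀ x, F (Ideal.Quotient.mk _ x) = Ideal.Quotient.mk _ (WittVector.map f x))
    (G : WittVector p B ⧸ span {ξ} →+* WittVector p Y ⧸ span {ξY})
    (hG : ∀ x, G (Ideal.Quotient.mk _ x) = Ideal.Quotient.mk _ (WittVector.map g x))
    (a' : WittVector p X ⧸ span {ξX} →+* WittVector p P ⧸ span {ξP})
    (ha' : ∀ x, a' (Ideal.Quotient.mk _ x) = Ideal.Quotient.mk _ (WittVector.map a x))
    (b' : WittVector p Y ⧸ span {ξY} →+* WittVector p P ⧸ span {ξP})
    (hb' : ∀ x, b' (Ideal.Quotient.mk _ x) = Ideal.Quotient.mk _ (WittVector.map b x)) :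
    ∃ (Q : CommRingCat.{u}) (i₁ : CommRingCat.of (WittVector p X ⧸ span {ξX}) ⟶ Q)
      (i₂ : CommRingCat.of (WittVector p Y ⧸ span {ξY}) ⟶ Q)
      (k : Q ⟶ CommRingCat.of (WittVector p P ⧸ span {ξP})),
      IsPushout (CommRingCat.ofHom F) (CommRingCat.ofHom G) i₁ i₂ ∧
      i₁ ≫ k = CommRingCat.ofHom a' ∧ i₂ ≫ k = CommRingCat.ofHom b' ∧
      CE (i₁.hom (p : WittVector p X ⧸ span {ξX})) k.hom := by
  have hQ := IsPushout.of_hasPushout (CommRingCat.ofHom F) (CommRingCat.ofHom G)
  have hw : CommRingCat.ofHom F ≫ CommRingCat.ofHom a' = CommRingCat.ofHom G ≫ CommRingCat.ofHom b' := by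
    ext x
    change a' (F (Ideal.Quotient.mk _ x)) = b' (G (Ideal.Quotient.mk _ x))
    rw [hF, hG, ha', hb']
    congr 1
    have h1 : a.comp f = b.comp g := congrArg CommRingCat.Hom.hom h.w
    have h2 : (WittVector.map (p := p) a).comp (WittVector.map f) =
        (WittVector.map (p := p) b).comp (WittVector.map g) := by
      refine RingHom.ext fun x => ?_
      ext n
      rw [RingHom.comp_apply, RingHom.comp_apply, map_coeff, map_coeff, map_coeff, map_coeff]
      exact RingHom.congr_fun h1 _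
    exact RingHom.congr_fun h2 x
  have e1 := hQ.inl_desc _ _ hw
  have e2 := hQ.inr_desc _ _ hw
  refine ⟨_, _, _, hQ.desc _ _ hw, hQ, e1, e2, ?_⟩
  rw [map_natCast]
  refine ce_of_isPushout hX hY hP h ξ ξX ξY ξP hξX hξP F hF G hG hQ _ ?_ ?_
  · intro x
    rw [← ha']
    exact ConcreteCategory.congr_hom e1 _
  · intro x
    rw [← hb']
    exact ConcreteCategory.congr_hom e2 _

end K148.SharpPush
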