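import Groth.Agent.EtDual.K148.Perf

/-!
# `B ↦ W(B)/ξ` commutes with wide pushouts modulo all powers of `p`

`IsWP f g h`: `(g i : A i → D, h : A₀ → D)` is a wide pushout of `f i : A₀ → A i` (in `Type u`).
`main`: if `T` is the wide pushout of perfect rings `B → B i` and `C` is the wide pushout of
`W(B)/ξ → W(B i)/ξ` then `C → W(T)/ξ` is an isomorphism modulo `p ^ r` for all `r`.
-/

set_option autoImplicit false

universe u v w

open WittVector Ideal TensorProduct

namespace K148.Wide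

open K148.Prim K148.Perf

section WP

variable {ι : Type v} {A₀ : Type u} [CommRing A₀] {A : ι → Type u} [∀ i, CommRing (A i)] {D : Type u}
  [CommRing D]

/-- `D` is the wide pushout of `f i : A₀ → A i`. -/
structure IsWP (f : ∀ i, A₀ →+* A i) (g : ∀ i, A i →+* D) (h : A₀ →+* D) : Prop where
  comm : ∀ i, (g i).comp (f i) = h
  desc : ∀ (O : Type u) [CommRing O] (a : A₀ →+* O) (b : ∀ i, A i →+* O), (∀ i, (b i).comp (f i) = a) →
    ∃ d : D →+* O, d.comp h = a ∧ ∀ i, d.comp (g i) = b i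
  uniq : ∀ (O : Type u) [CommRing O] (d d' : D →+* O), d.comp h = d'.comp h →
    (∀ i, d.comp (g i) = d'.comp (g i)) → d = d'

variable {f : ∀ i, A₀ →+* A i} {g : ∀ i, A i →+* D} {h : A₀ →+* D}

end WP

variable {p : ℕ} [hp : Fact p.Prime]

/-- maps `φ : C → D` which are isomorphisms modulo all powers of `w` -/
def IsoMod {C : Type u} {D : Type v} [CommRing C] [CommRing D] (w : C) (φ : C →+* D) : Prop :=
  ∀ r : ℕ, (∀ z, φ w ^ r ∣ φ z → w ^ r ∣ z) ∧ ∀ y, ∃ z, φ w ^ r ∣ y - φ z

variable {ι : Type v} {B : Type u} [CommRing B] {B' : ι → Type u} [∀ i, CommRing (B' i)] {T : Type u}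
  [CommRing T] {f : ∀ i, B →+* B' i} {g : ∀ i, B' i →+* T} {h : B →+* T}

/-- existence in the wide pushout property of `W(T)` -/
theorem exists_desc (hB : IsPerf p B) (hB' : ∀ i, IsPerf p (B' i)) (hT : IsPerf p T) (hw : IsWP f g h)
    {O : Type u} [CommRing O] (hO : IsNilpotent (p : O)) (a : WittVector p B →+* O)
    (b : ∀ i, WittVector p (B' i) →+* O) (hab : ∀ i, (b i).comp (WittVector.map (f i)) = a) :
    ∃ φ : WittVector p T →+* O, φ.comp (WittVector.map h) = a ∧
      ∀ i, φ.comp (WittVector.map (g i)) = b i := by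
  obtain ⟨a', ha'⟩ := exists_bar hB a
  choose b' hb' using fun i => exists_bar (hB' i) (b i)
  obtain ⟨t, ht₁, ht₂⟩ := hw.desc _ a' b' (by
    intro i
    refine bar_unique (p := p) fun x => ?_
    rw [ha', RingHom.comp_apply, ← hab, RingHom.comp_apply, ← hb', map_coeff])
  obtain ⟨φ, hφ⟩ := exists_lift hT hO t
  refine ⟨φ, ?_, fun i => ?_⟩
  · refine lift_unique hB hO _ _ fun x => ?_
    rw [RingHom.comp_apply, hφ, map_coeff, ← ha' x, ← ht₁, RingHom.comp_apply]
  · refine lift_unique (hB' i) hO _ _ fun x => ?_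
    rw [RingHom.comp_apply, hφ, map_coeff, ← hb' i x, ← ht₂ i, RingHom.comp_apply]

/-- uniqueness in the wide pushout property of `W(T)` -/
theorem uniq (hT : IsPerf p T) (hw : IsWP f g h)
    {O : Type u} [CommRing O] (hO : IsNilpotent (p : O)) (φ ψ : WittVector p T →+* O)
    (h₀ : φ.comp (WittVector.map h) = ψ.comp (WittVector.map h))
    (h₁ : ∀ i, φ.comp (WittVector.map (g i)) = ψ.comp (WittVector.map (g i))) : φ = ψ := by
  obtain ⟨φ', hφ'⟩ := exists_bar hT φ
  obtain ⟨ψ', hψ'⟩ := exists_bar hT ψ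
  refine lift_unique hT hO φ ψ fun x => ?_
  rw [← hφ', ← hψ']
  refine RingHom.congr_fun (?_ : φ' = ψ') _
  refine hw.uniq _ _ _ ?_ fun i => ?_
  · refine bar_unique (p := p) fun x => ?_
    rw [RingHom.comp_apply, RingHom.comp_apply, ← map_coeff, hφ', hψ']
    exact congrArg _ (RingHom.congr_fun h₀ x)
  · refine bar_unique (p := p) fun x => ?_
    rw [RingHom.comp_apply, RingHom.comp_apply, ← map_coeff, hφ', hψ']
    exact congrArg _ (RingHom.congr_fun (h₁ i) x)

/-- `B ↦ W(B)/ξ` commutes with wide pushouts modulo all powers of `p`. Here `ξ i`, `ξT` are the images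
of `ξ : W(B)`, `C` is a wide pushout of `s i : W(B)/ξ → W(B' i)/ξ i` and `Φ : C → W(T)/ξT` is compatible
with the maps `W(g i)`, `W(h)`. -/
theorem main (hB : IsPerf p B) (hB' : ∀ i, IsPerf p (B' i)) (hT : IsPerf p T) (hw : IsWP f g h)
    (ξ : WittVector p B) (ξ' : ∀ i, WittVector p (B' i)) (ξT : WittVector p T)
    (s : ∀ i, WittVector p B ⧸ span {ξ} →+* WittVector p (B' i) ⧸ span {ξ' i})
    (hs : ∀ i x, s i (Ideal.Quotient.mk _ x) = Ideal.Quotient.mk _ (WittVector.map (f i) x))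
    (hξT : ξT = WittVector.map h ξ)
    {C : Type u} [CommRing C] {c : ∀ i, WittVector p (B' i) ⧸ span {ξ' i} →+* C}
    {c₀ : WittVector p B ⧸ span {ξ} →+* C} (hC : IsWP s c c₀) (Φ : C →+* WittVector p T ⧸ span {ξT})
    (hΦ₀ : ∀ x, Φ (c₀ (Ideal.Quotient.mk _ x)) = Ideal.Quotient.mk _ (WittVector.map h x))
    (hΦ : ∀ i x, Φ (c i (Ideal.Quotient.mk _ x)) = Ideal.Quotient.mk _ (WittVector.map (g i) x)) :
    IsoMod (p : C) Φ := by
  intro r
  rcases Nat.eq_zero_or_pos r with rfl | hr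
  · refine ⟨fun z _ => ?_, fun y => ⟨0, ?_⟩⟩
    · rw [pow_zero]
      exact one_dvd z
    · rw [pow_zero]
      exact one_dvd _
  subst hξT
  set O := C ⧸ span {(p : C) ^ r} with hOdef
  let π : C →+* O := Ideal.Quotient.mk _
  have hO : IsNilpotent (p : O) := by
    refine ⟨r, ?_⟩
    rw [← map_natCast π, ← map_pow]
    exact Ideal.Quotient.eq_zero_iff_mem.2 (Ideal.mem_span_singleton_self _)
  obtain ⟨ψ, hψ₀, hψ⟩ := exists_desc hB hB' hT hw hO (π.comp (c₀.comp (Ideal.Quotient.mk (span {ξ}))))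
    (fun i => π.comp ((c i).comp (Ideal.Quotient.mk (span {ξ' i})))) (by
      intro i
      refine RingHom.ext fun x => ?_
      simp only [RingHom.comp_apply]
      rw [← hs, ← RingHom.comp_apply (c i) (s i), hC.comm])
  have hψξ : ψ (WittVector.map h ξ) = 0 := by
    rw [← RingHom.comp_apply, hψ₀, RingHom.comp_apply, RingHom.comp_apply,
      Ideal.Quotient.eq_zero_iff_mem.2 (Ideal.mem_span_singleton_self ξ), map_zero, map_zero]
  let Ψ : WittVector p T ⧸ span {WittVector.map h ξ} →+* O := Ideal.Quotient.lift _ ψ (by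
    intro x hx
    obtain ⟨y, rfl⟩ := Ideal.mem_span_singleton.1 hx
    rw [map_mul, hψξ, zero_mul])
  have hΨ : ∀ x, Ψ (Ideal.Quotient.mk _ x) = ψ x := fun x => rfl
  have h1 : Ψ.comp Φ = π := by
    refine hC.uniq O _ _ ?_ fun i => ?_
    · refine RingHom.ext fun x => ?_
      obtain ⟨x, rfl⟩ := Ideal.Quotient.mk_surjective x
      rw [RingHom.comp_apply, RingHom.comp_apply, hΦ₀, hΨ, ← RingHom.comp_apply, hψ₀]
      rfl
    · refine RingHom.ext fun x => ?_
      obtain ⟨x, rfl⟩ := Ideal.Quotient.mk_surjective x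
      rw [RingHom.comp_apply, RingHom.comp_apply, hΦ, hΨ, ← RingHom.comp_apply, hψ]
      rfl
  refine ⟨fun z hz => ?_, fun y => ?_⟩
  · obtain ⟨y, hy⟩ := hz
    have h2 : π z = 0 := by
      rw [← h1, RingHom.comp_apply, hy, map_mul, map_pow, ← RingHom.comp_apply, h1, ← map_pow]
      rw [show π ((p : C) ^ r) = 0 from Ideal.Quotient.eq_zero_iff_mem.2 (Ideal.mem_span_singleton_self _),
        zero_mul]
    rw [← Ideal.mem_span_singleton]
    exact Ideal.Quotient.eq_zero_iff_mem.1 h2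
  · -- surjectivity
    obtain ⟨y, rfl⟩ := Ideal.Quotient.mk_surjective y
    obtain ⟨z, hz⟩ := Ideal.Quotient.mk_surjective (Ψ (Ideal.Quotient.mk _ y))
    refine ⟨z, ?_⟩
    have hz' : π z = Ψ (Ideal.Quotient.mk _ y) := hz
    set S := WittVector p T ⧸ span {WittVector.map h ξ}
    let O' := S ⧸ span {(p : S) ^ r}
    let π' : S →+* O' := Ideal.Quotient.mk _
    have hO' : IsNilpotent (p : O') := by
      refine ⟨r, ?_⟩
      rw [← map_natCast π', ← map_pow]
      exact Ideal.Quotient.eq_zero_iff_mem.2 (Ideal.mem_span_singleton_self _)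
    let Φ' : O →+* O' := Ideal.quotientMap (span {(p : S) ^ r}) Φ (by
      rw [Ideal.span_singleton_le_iff_mem, Ideal.mem_comap, map_pow, map_natCast]
      exact Ideal.mem_span_singleton_self _)
    have hΦ' : ∀ c, Φ' (π c) = π' (Φ c) := fun c => rfl
    have h2 : Φ'.comp ψ = π'.comp (Ideal.Quotient.mk _) := by
      refine uniq hT hw hO' _ _ ?_ fun i => ?_
      · refine RingHom.ext fun x => ?_
        simp only [RingHom.comp_apply]
        rw [← RingHom.comp_apply ψ, hψ₀, RingHom.comp_apply, hΦ', RingHom.comp_apply, hΦ₀]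
      · refine RingHom.ext fun x => ?_
        simp only [RingHom.comp_apply]
        rw [← RingHom.comp_apply ψ, hψ i, RingHom.comp_apply, hΦ', RingHom.comp_apply, hΦ i]
    have h3 : π' (Φ z) = π' (Ideal.Quotient.mk _ y) := by
      rw [← hΦ', hz', hΨ, ← RingHom.comp_apply, h2]
      rfl
    have h4 : π' (Ideal.Quotient.mk _ y - Φ z) = 0 := by
      rw [map_sub, h3, sub_self]
    rw [map_natCast, ← Ideal.mem_span_singleton]
    exact Ideal.Quotient.eq_zero_iff_mem.1 h4

end K148.Wide
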